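/-
Objects of finite type with respect to a class `P` of objects, precoherent objects.
-/
import Groth.Prelude.Def_PCoh
import Mathlib.CategoryTheory.Abelian.Refinements
import Mathlib.CategoryTheory.Limits.Shapes.BinaryBiproducts
import Mathlib.Algebra.Homology.Refinements
import Mathlib.Algebra.Homology.Augment
import Mathlib.Algebra.Homology.ShortComplex.Abelian

set_option autoImplicit false
set_option linter.unusedSectionVars false

open CategoryTheory CategoryTheory.Limits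

namespace Groth.Agent.Lib.PCoh.Basic

universe v u

variable {C : Type u} [Category.{v} C] [Abelian C] {P : ObjectProperty C}

open _root_.PCoh

/-- `X` has all kernels of maps from `P` of finite type. -/
def Precoherent (P : ObjectProperty C) (X : C) : Prop :=
  ∀ (E : C) (u : E ⟶ X), P E → IsOfFiniteType P (kernel u)

lemma ft_of_mem {X : C} (h : P X) : IsOfFiniteType P X := ⟨X, 𝟙 X, h, inferInstance⟩

lemma ft_of_epi {X Y : C} (h : IsOfFiniteType P X) (q : X ⟶ Y) [Epi q] : IsOfFiniteType P Y := by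
  obtain ⟨L, π, hL, hπ⟩ := h
  exact ⟨L, π ≫ q, hL, epi_comp _ _⟩

lemma ft_of_iso {X Y : C} (h : IsOfFiniteType P X) (e : X ≅ Y) : IsOfFiniteType P Y :=
  ft_of_epi h e.hom

lemma mem_of_isZero [P.ContainsZero] [P.IsClosedUnderIsomorphisms] {X : C} (h : IsZero X) : P X := by
  obtain ⟨Z, hZ, hP⟩ := ObjectProperty.exists_prop_of_containsZero P
  exact P.prop_of_iso (hZ.iso h) hP

lemma ft_of_isZero [P.ContainsZero] [P.IsClosedUnderIsomorphisms] {X : C} (h : IsZero X) :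
    IsOfFiniteType P X := ft_of_mem (mem_of_isZero h)

lemma biprod_mem [P.IsClosedUnderIsomorphisms] (hsum : ∀ X Y : C, P X → P Y → P (X ⨯ Y)) {X Y : C}
    (hX : P X) (hY : P Y) : P (X ⊞ Y) :=
  P.prop_of_iso (biprod.isoProd X Y).symm (hsum X Y hX hY)

lemma exists_lift_of_ft (hql : IsQuasiLiftable P) {Z H : C} (q : Z ⟶ H) [Epi q]
    (hH : IsOfFiniteType P H) : ∃ (L : C) (v : L ⟶ Z), P L ∧ Epi (v ≫ q) := by
  obtain ⟨L, π, hL, hπ⟩ := hH
  obtain ⟨L', v, hL', hv⟩ := hql _ _ (pullback.snd q π) inferInstance hL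
  refine ⟨L', v ≫ pullback.fst q π, hL', ?_⟩
  have : (v ≫ pullback.fst q π) ≫ q = (v ≫ pullback.snd q π) ≫ π := by
    simp [pullback.condition]
  rw [this]
  exact epi_comp _ _

/-- To show that a kernel is of finite type. -/
lemma ft_kernel_of_refinements {L E X : C} (u : E ⟶ X) (m : L ⟶ E) (hm : m ≫ u = 0)
    (hL : IsOfFiniteType P L)
    (h : ∀ ⦃A : C⦄ (x : A ⟶ E), x ≫ u = 0 →
      ∃ (A' : C) (π : A' ⟶ A) (_ : Epi π) (y : A' ⟶ L), π ≫ x = y ≫ m) :
    IsOfFiniteType P (kernel u) := by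
  have : Epi (kernel.lift u m hm) := by
    rw [epi_iff_surjective_up_to_refinements]
    intro A x
    obtain ⟨A', π, hπ, y, hy⟩ := h (x ≫ kernel.ι u) (by simp)
    exact ⟨A', π, hπ, y, by rw [← cancel_mono (kernel.ι u)]; simpa using hy⟩
  exact ft_of_epi hL (kernel.lift u m hm)

lemma exists_of_ft_kernel {E X : C} (u : E ⟶ X) (h : IsOfFiniteType P (kernel u)) :
    ∃ (L : C) (m : L ⟶ E), P L ∧ m ≫ u = 0 ∧ ∀ ⦃A : C⦄ (x : A ⟶ E), x ≫ u = 0 →
      ∃ (A' : C) (π : A' ⟶ A) (_ : Epi π) (y : A' ⟶ L), π ≫ x = y ≫ m := by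
  obtain ⟨L, q, hL, hq⟩ := h
  refine ⟨L, q ≫ kernel.ι u, hL, by simp, fun A x hx => ?_⟩
  obtain ⟨A', π, hπ, y, hy⟩ := surjective_up_to_refinements_of_epi q (kernel.lift u x hx)
  exact ⟨A', π, hπ, y, by rw [← Category.assoc, ← hy]; simp⟩

lemma ft_kernel_of_precoherent {S : ShortComplex C} (hS : S.Exact) (hf : Mono S.f)
    (hG : IsOfFiniteType P S.X₂) (hH : Precoherent P S.X₃) : IsOfFiniteType P S.X₁ := by
  obtain ⟨L, π, hL, hπ⟩ := hG
  have hk := hH L (π ≫ S.g) hL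
  let φ : kernel (π ≫ S.g) ⟶ S.X₁ := hS.lift (kernel.ι (π ≫ S.g) ≫ π) (by simp)
  have : Epi φ := by
    rw [epi_iff_surjective_up_to_refinements]
    intro A x
    obtain ⟨A', p, hp, y, hy⟩ := surjective_up_to_refinements_of_epi π (x ≫ S.f)
    refine ⟨A', p, hp, kernel.lift _ y (by rw [← reassoc_of% hy]; simp), ?_⟩
    rw [← cancel_mono S.f, Category.assoc, Category.assoc, ShortComplex.Exact.lift_f]
    simp [hy]
  exact ft_of_epi hk φ

lemma ft_middle [P.IsClosedUnderIsomorphisms] (hsum : ∀ X Y : C, P X → P Y → P (X ⨯ Y))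
    (hql : IsQuasiLiftable P) {S : ShortComplex C} (hS : S.Exact) (hg : Epi S.g)
    (h₁ : IsOfFiniteType P S.X₁) (h₃ : IsOfFiniteType P S.X₃) : IsOfFiniteType P S.X₂ := by
  obtain ⟨L₃, t, hL₃, ht⟩ := exists_lift_of_ft hql S.g h₃
  obtain ⟨L₁, π, hL₁, hπ⟩ := h₁
  refine ⟨L₁ ⊞ L₃, biprod.desc (π ≫ S.f) t, biprod_mem hsum hL₁ hL₃, ?_⟩
  rw [epi_iff_surjective_up_to_refinements]
  intro A x
  obtain ⟨A₁, p₁, hp₁, y, hy⟩ := surjective_up_to_refinements_of_epi (t ≫ S.g) (x ≫ S.g)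
  obtain ⟨A₂, p₂, hp₂, z, hz⟩ := hS.exact_up_to_refinements (p₁ ≫ x - y ≫ t) (by
    simp [hy])
  obtain ⟨A₃, p₃, hp₃, l, hl⟩ := surjective_up_to_refinements_of_epi π z
  refine ⟨A₃, p₃ ≫ p₂ ≫ p₁, inferInstance, biprod.lift l (p₃ ≫ p₂ ≫ y), ?_⟩
  rw [biprod.lift_desc, ← reassoc_of% hl]
  have := congrArg (p₃ ≫ ·) hz
  simp only [Preadditive.comp_sub, Category.assoc] at this ⊢
  rw [← this]
  abel

lemma precoherent_middle (hql : IsQuasiLiftable P) {S : ShortComplex C} (hS : S.Exact) (hf : Mono S.f)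
    (h₁ : Precoherent P S.X₁) (h₃ : Precoherent P S.X₃) : Precoherent P S.X₂ := by
  intro E u hE
  obtain ⟨L, m, hL, hm, hm'⟩ := exists_of_ft_kernel _ (h₃ E (u ≫ S.g) hE)
  obtain ⟨L', m', hL', hm₁, hm₁'⟩ :=
    exists_of_ft_kernel _ (h₁ L (hS.lift (m ≫ u) (by simpa using hm)) hL)
  have h0 : (m' ≫ m) ≫ u = 0 := by
    have := congrArg (· ≫ S.f) hm₁
    simpa using this
  refine ft_kernel_of_refinements u (m' ≫ m) h0 (ft_of_mem hL') (fun A x hx => ?_)
  obtain ⟨A₁, p₁, hp₁, y, hy⟩ := hm' x (by simp [reassoc_of% hx])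
  obtain ⟨A₂, p₂, hp₂, z, hz⟩ := hm₁' y (by
    rw [← cancel_mono S.f, Category.assoc, ShortComplex.Exact.lift_f, ← reassoc_of% hy, hx]
    simp)
  exact ⟨A₂, p₂ ≫ p₁, inferInstance, z, by rw [Category.assoc, hy, reassoc_of% hz]⟩

lemma precoherent_right [P.IsClosedUnderIsomorphisms] (hsum : ∀ X Y : C, P X → P Y → P (X ⨯ Y))
    (hql : IsQuasiLiftable P) {S : ShortComplex C} (hS : S.Exact) (hg : Epi S.g)
    (h₁ : IsOfFiniteType P S.X₁) (h₂ : Precoherent P S.X₂) : Precoherent P S.X₃ := by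
  intro E u hE
  obtain ⟨E', v, hE', hv⟩ := hql _ _ (pullback.snd S.g u) inferInstance hE
  obtain ⟨L₁, π, hL₁, hπ⟩ := h₁
  let t := v ≫ pullback.fst S.g u
  let e := v ≫ pullback.snd S.g u
  have hte : t ≫ S.g = e ≫ u := by simp [t, e, pullback.condition]
  obtain ⟨L, m, hL, hm, hm'⟩ := exists_of_ft_kernel _
    (h₂ _ (biprod.desc t (π ≫ S.f)) (biprod_mem hsum hE' hL₁))
  have h0 : (m ≫ biprod.fst ≫ e) ≫ u = 0 := by
    have := congrArg (· ≫ S.g) hm
    simp only [Category.assoc, zero_comp] at this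
    have e₀ : biprod.desc t (π ≫ S.f) ≫ S.g = biprod.fst ≫ e ≫ u := by
      apply biprod.hom_ext' <;> simp [hte]
    rw [e₀] at this
    simpa using this
  refine ft_kernel_of_refinements u (m ≫ biprod.fst ≫ e) h0 (ft_of_mem hL) (fun A x hx => ?_)
  obtain ⟨A₁, p₁, hp₁, x', hx'⟩ := surjective_up_to_refinements_of_epi e x
  obtain ⟨A₂, p₂, hp₂, z, hz⟩ := hS.exact_up_to_refinements (x' ≫ t) (by
    rw [Category.assoc, hte, ← reassoc_of% hx', hx, comp_zero])
  obtain ⟨A₃, p₃, hp₃, l, hl⟩ := surjective_up_to_refinements_of_epi π z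
  obtain ⟨A₄, p₄, hp₄, y, hy⟩ := hm' (biprod.lift (p₃ ≫ p₂ ≫ x') (-l)) (by
    rw [biprod.lift_desc, Preadditive.neg_comp, ← reassoc_of% hl, ← hz]
    simp)
  refine ⟨A₄, p₄ ≫ p₃ ≫ p₂ ≫ p₁, inferInstance, y, ?_⟩
  have := congrArg (· ≫ biprod.fst ≫ e) hy
  simp only [Category.assoc, biprod.lift_fst_assoc] at this
  simp only [Category.assoc, hx']
  exact this

/-- A complex with terms in `P` in degrees `≥ n`, bounded above and exact above `n`, has
homology of finite type in degree `n`. -/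
lemma ft_homology (hqs : IsQuasiStableUnderKernels P) (n : ℤ) (E : CochainComplex C ℤ)
    (hE : IsStrictPC P n E) (hac : ∀ i : ℤ, n < i → E.ExactAt i) :
    IsOfFiniteType P (E.homology n) := by
  obtain ⟨⟨b, hb⟩, hP⟩ := hE
  let R : CochainComplex C ℕ := CochainComplex.of (fun i => E.X (n + i))
    (fun i => E.d (n + i) (n + ((i + 1 : ℕ) : ℤ))) (fun i => E.d_comp_d _ _ _)
  have hR : ∀ i : ℕ, R.d i (i + 1) = E.d (n + i) (n + ((i + 1 : ℕ) : ℤ)) := by
    intro i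
    dsimp only [R]
    erw [CochainComplex.of_d]
  have w : E.iCycles (n + ((0 : ℕ) : ℤ)) ≫ R.d 0 1 = 0 := by
    rw [hR 0]
    exact E.iCycles_d _ _
  have i1 : ∀ j : ℤ, Mono (E.iCycles j) := fun j => inferInstance
  have i2 : ∀ j : ℤ, Epi (E.homologyπ j) := fun j => inferInstance
  let K := R.augment (E.iCycles (n + ((0 : ℕ) : ℤ)) : _ ⟶ R.X 0) w
  have key : IsOfFiniteType P (K.X 0) := hqs K ?_ ⟨(b - n).toNat + 1, ?_⟩ ?_
  · have h : IsOfFiniteType P (E.homology (n + ((0 : ℕ) : ℤ))) :=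
      @ft_of_epi _ _ _ _ _ _ (key : IsOfFiniteType P (E.cycles (n + ((0 : ℕ) : ℤ)))) (E.homologyπ _) (i2 _)
    simpa using h
  · intro i
    match i with
    | 0 =>
      rw [HomologicalComplex.exactAt_iff_exact_up_to_refinements K 0 0 1 (by simp) (by simp)]
      intro A x hx
      change A ⟶ E.cycles (n + ((0 : ℕ) : ℤ)) at x
      change x ≫ E.iCycles _ = 0 at hx
      refine ⟨A, 𝟙 A, inferInstance, 0, ?_⟩
      exact (Category.id_comp x).trans ((@zero_of_comp_mono _ _ _ _ _ _ _ _ (i1 _) hx).trans zero_comp.symm)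
    | 1 =>
      rw [HomologicalComplex.exactAt_iff_exact_up_to_refinements K 0 1 2 (by simp) (by simp)]
      intro A x hx
      change A ⟶ R.X 0 at x
      change x ≫ R.d 0 1 = 0 at hx
      rw [hR 0] at hx
      refine ⟨A, 𝟙 A, inferInstance, E.liftCycles x _ (by simp) hx, ?_⟩
      change 𝟙 A ≫ x = E.liftCycles x _ _ _ ≫ E.iCycles _
      erw [HomologicalComplex.liftCycles_i, Category.id_comp]
    | (i + 2) =>
      rw [HomologicalComplex.exactAt_iff_exact_up_to_refinements K (i + 1) (i + 2) (i + 3) (by simp) (by simp)]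
      have h := hac (n + ((i + 1 : ℕ) : ℤ)) (by omega)
      rw [HomologicalComplex.exactAt_iff_exact_up_to_refinements E (n + (i : ℤ))
        (n + ((i + 1 : ℕ) : ℤ)) (n + ((i + 1 + 1 : ℕ) : ℤ)) (by simp; omega) (by simp; omega)] at h
      intro A x hx
      change A ⟶ R.X (i + 1) at x
      change x ≫ R.d (i + 1) (i + 1 + 1) = 0 at hx
      change ∃ (A' : C) (π : A' ⟶ A) (_ : Epi π) (x₁ : A' ⟶ R.X i), π ≫ x = x₁ ≫ R.d i (i + 1)
      rw [hR] at hx ⊢
      exact h x hx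
  · intro i hi
    match i with
    | i + 1 => exact hb _ (by omega)
  · intro i hi
    match i with
    | i + 1 => exact hP _ (by omega)

end Groth.Agent.Lib.PCoh.Basic
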