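/-
Exactness of mapping cones of maps of cochain complexes, in terms of elements up to refinements.
-/
import Mathlib.Algebra.Homology.HomotopyCategory.Pretriangulated
import Mathlib.Algebra.Homology.Refinements
import Mathlib.Algebra.Homology.QuasiIso
import Mathlib.Algebra.Homology.ShortComplex.Abelian

set_option autoImplicit false

open CategoryTheory CategoryTheory.Limits CochainComplex

namespace Groth.Agent.Lib.PCoh.Cone

universe v u

lemma eq_of_eq_of_sub_eq {G : Type*} [AddCommGroup G] {a b c d : G} (h : c = d) (h' : a - b = c - d) :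
    a = b := by
  rwa [← sub_eq_zero, h', sub_eq_zero]

variable {C : Type u} [Category.{v} C] [Abelian C]
variable {E F : CochainComplex C ℤ} (w : E ⟶ F)

/-- `(e, f)` as an element of the mapping cone. -/
noncomputable def pair (i j : ℤ) (hij : i + 1 = j) {A : C} (e : A ⟶ E.X j) (f : A ⟶ F.X i) :
    A ⟶ (mappingCone w).X i :=
  e ≫ (mappingCone.inl w).v j i (by omega) + f ≫ (mappingCone.inr w).f i

@[reassoc (attr := simp)]
lemma pair_fst (i j : ℤ) (hij : i + 1 = j) {A : C} (e : A ⟶ E.X j) (f : A ⟶ F.X i) :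
    pair w i j hij e f ≫ (mappingCone.fst w).1.v i j hij = e := by
  simp [pair]

@[reassoc (attr := simp)]
lemma pair_snd (i j : ℤ) (hij : i + 1 = j) {A : C} (e : A ⟶ E.X j) (f : A ⟶ F.X i) :
    pair w i j hij e f ≫ (mappingCone.snd w).v i i (add_zero i) = f := by
  simp [pair]

lemma pair_d (i j k : ℤ) (hij : i + 1 = j) (hjk : j + 1 = k) {A : C}
    (e : A ⟶ E.X j) (f : A ⟶ F.X i) :
    pair w i j hij e f ≫ (mappingCone w).d i j =
      pair w j k hjk (-(e ≫ E.d j k)) (e ≫ w.f j + f ≫ F.d i j) := by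
  apply mappingCone.ext_to w j k hjk
  · rw [Category.assoc, mappingCone.d_fst_v w i j k hij hjk]
    simp
  · rw [Category.assoc, mappingCone.d_snd_v w i j hij]
    simp

lemma pair_eq_zero_iff (i j : ℤ) (hij : i + 1 = j) {A : C} (e : A ⟶ E.X j) (f : A ⟶ F.X i) :
    pair w i j hij e f = 0 ↔ e = 0 ∧ f = 0 := by
  constructor
  · intro h
    exact ⟨by simpa using congrArg (· ≫ (mappingCone.fst w).1.v i j hij) h,
      by simpa using congrArg (· ≫ (mappingCone.snd w).v i i (add_zero i)) h⟩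
  · rintro ⟨rfl, rfl⟩
    simp [pair]

lemma exists_pair (i j : ℤ) (hij : i + 1 = j) {A : C} (x : A ⟶ (mappingCone w).X i) :
    ∃ (e : A ⟶ E.X j) (f : A ⟶ F.X i), x = pair w i j hij e f :=
  mappingCone.decomp_to w x j hij

lemma pair_ext {i j : ℤ} {hij : i + 1 = j} {A : C} {e e' : A ⟶ E.X j} {f f' : A ⟶ F.X i}
    (h : pair w i j hij e f = pair w i j hij e' f') : e = e' ∧ f = f' :=
  ⟨by simpa using congrArg (· ≫ (mappingCone.fst w).1.v i j hij) h,
    by simpa using congrArg (· ≫ (mappingCone.snd w).v i i (add_zero i)) h⟩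

@[reassoc]
lemma comp_pair (i j : ℤ) (hij : i + 1 = j) {A A' : C} (π : A' ⟶ A) (e : A ⟶ E.X j)
    (f : A ⟶ F.X i) : π ≫ pair w i j hij e f = pair w i j hij (π ≫ e) (π ≫ f) := by
  simp [pair]

lemma pair_add (i j : ℤ) (hij : i + 1 = j) {A : C} (e e' : A ⟶ E.X j) (f f' : A ⟶ F.X i) :
    pair w i j hij (e + e') (f + f') = pair w i j hij e f + pair w i j hij e' f' := by
  simp only [pair, Preadditive.add_comp]
  abel

/-- Exactness of the mapping cone in elementwise form. -/
lemma exactAt_iff (i' i j k : ℤ) (h : i' + 1 = i) (hij : i + 1 = j) (hjk : j + 1 = k) :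
    (mappingCone w).ExactAt i ↔
      ∀ ⦃A : C⦄ (e : A ⟶ E.X j) (f : A ⟶ F.X i), e ≫ E.d j k = 0 → e ≫ w.f j + f ≫ F.d i j = 0 →
        ∃ (A' : C) (π : A' ⟶ A) (_ : Epi π) (a : A' ⟶ E.X i) (b : A' ⟶ F.X i'),
          π ≫ e = -(a ≫ E.d i j) ∧ π ≫ f = a ≫ w.f i + b ≫ F.d i' i := by
  rw [HomologicalComplex.exactAt_iff_exact_up_to_refinements _ i' i j
    (ComplexShape.prev_eq' _ h) (ComplexShape.next_eq' _ hij)]
  constructor
  · intro H A e f he hef
    obtain ⟨A', π, hπ, x, hx⟩ := H (pair w i j hij e f) (by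
      rw [pair_d w i j k hij hjk, he, hef, neg_zero, pair_eq_zero_iff]; exact ⟨rfl, rfl⟩)
    obtain ⟨a, b, rfl⟩ := exists_pair w i' i h x
    rw [comp_pair, pair_d w i' i j h hij] at hx
    exact ⟨A', π, hπ, a, b, pair_ext w hx⟩
  · intro H A x hx
    obtain ⟨e, f, rfl⟩ := exists_pair w i j hij x
    rw [pair_d w i j k hij hjk, pair_eq_zero_iff, neg_eq_zero] at hx
    obtain ⟨A', π, hπ, a, b, ha, hb⟩ := H e f hx.1 hx.2
    exact ⟨A', π, hπ, pair w i' i h a b, by rw [comp_pair, pair_d w i' i j h hij, ha, hb]⟩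

lemma epi_homologyMap_of_exactAt (i : ℤ) (h : (mappingCone w).ExactAt i) :
    Epi (HomologicalComplex.homologyMap w i) := by
  rw [exactAt_iff w (i - 1) i (i + 1) (i + 1 + 1) (by omega) rfl rfl] at h
  rw [HomologicalComplex.epi_homologyMap_iff_up_to_refinements w (i - 1) i (i + 1) (by simp) (by simp)]
  intro A y hy
  obtain ⟨A', π, hπ, a, b, ha, hb⟩ := h (0 : A ⟶ E.X (i + 1)) y (by simp) (by simp [hy])
  rw [comp_zero, eq_comm, neg_eq_zero] at ha
  exact ⟨A', π, hπ, a, ha, b, hb⟩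

lemma mono_homologyMap_of_exactAt (i j : ℤ) (hij : i + 1 = j) (h : (mappingCone w).ExactAt i) :
    Mono (HomologicalComplex.homologyMap w j) := by
  subst hij
  rw [exactAt_iff w (i - 1) i (i + 1) (i + 1 + 1) (by omega) rfl rfl] at h
  rw [HomologicalComplex.mono_homologyMap_iff_up_to_refinements w i (i + 1) (i + 1 + 1)
    (by simp) (by simp)]
  intro A x hx y hxy
  obtain ⟨A', π, hπ, a, b, ha, hb⟩ := h x (-y) hx (by simp [hxy])
  exact ⟨A', π, hπ, -a, by simpa using ha⟩

lemma exactAt_of_epi_of_mono (i j : ℤ) (hij : i + 1 = j)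
    [he : Epi (HomologicalComplex.homologyMap w i)] [hm : Mono (HomologicalComplex.homologyMap w j)] :
    (mappingCone w).ExactAt i := by
  subst hij
  rw [HomologicalComplex.epi_homologyMap_iff_up_to_refinements w (i - 1) i (i + 1) (by simp) (by simp)] at he
  rw [HomologicalComplex.mono_homologyMap_iff_up_to_refinements w i (i + 1) (i + 1 + 1)
    (by simp) (by simp)] at hm
  rw [exactAt_iff w (i - 1) i (i + 1) (i + 1 + 1) (by omega) rfl rfl]
  intro A e f h₁ h₂
  obtain ⟨A₁, π₁, hπ₁, x, hx⟩ := hm e h₁ (-f) (by rw [Preadditive.neg_comp]; exact eq_neg_of_add_eq_zero_left h₂)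
  have hz : (π₁ ≫ f + x ≫ w.f i) ≫ F.d i (i + 1) = 0 := by
    rw [Preadditive.add_comp, Category.assoc, Category.assoc, w.comm, reassoc_of% hx.symm,
      ← Preadditive.comp_add, add_comm (f ≫ _), h₂, comp_zero]
  obtain ⟨A₂, π₂, hπ₂, c, hc, b, hb⟩ := he _ hz
  refine ⟨A₂, π₂ ≫ π₁, inferInstance, c - π₂ ≫ x, b, ?_, ?_⟩
  · simp [hx, hc]
  · rw [Preadditive.comp_add] at hb
    rw [Category.assoc, Preadditive.sub_comp, Category.assoc, sub_add_eq_add_sub, eq_sub_iff_add_eq]
    exact hb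

/-- The cone of `w` is exact in every degree `≥ n`. -/
def ExactGE (n : ℤ) : Prop := ∀ i : ℤ, n ≤ i → (mappingCone w).ExactAt i

lemma exactGE_iff (n : ℤ) :
    ExactGE w n ↔ Epi (HomologicalComplex.homologyMap w n) ∧
      ∀ i : ℤ, n < i → IsIso (HomologicalComplex.homologyMap w i) := by
  constructor
  · intro h
    refine ⟨epi_homologyMap_of_exactAt w n (h n le_rfl), fun i hi => ?_⟩
    have := epi_homologyMap_of_exactAt w i (h i hi.le)
    have := mono_homologyMap_of_exactAt w (i - 1) i (by omega) (h _ (by omega))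
    exact isIso_of_mono_of_epi _
  · rintro ⟨h, h'⟩ i hi
    have := h' (i + 1) (by omega)
    rcases hi.lt_or_eq with hi | rfl
    · have := h' i hi
      exact exactAt_of_epi_of_mono w i (i + 1) rfl
    · exact exactAt_of_epi_of_mono w n (n + 1) rfl

variable {w} in
lemma ExactGE.mono {n m : ℤ} (h : ExactGE w n) (hnm : n ≤ m) : ExactGE w m :=
  fun i hi => h i (hnm.trans hi)

lemma quasiIso_iff : QuasiIso w ↔ ∀ i, (mappingCone w).ExactAt i := by
  constructor
  · intro h i
    exact exactAt_of_epi_of_mono w i (i + 1) rfl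
  · intro h
    refine ⟨fun i => ?_⟩
    rw [quasiIsoAt_iff_isIso_homologyMap]
    have := epi_homologyMap_of_exactAt w i (h i)
    have := mono_homologyMap_of_exactAt w (i - 1) i (by omega) (h _)
    exact isIso_of_mono_of_epi _

variable {E' F' : CochainComplex C ℤ} {w' : E' ⟶ F'} {r : E ⟶ E'} {s : F ⟶ F'}

lemma pair_map (comm : w ≫ s = r ≫ w') (i j : ℤ) (hij : i + 1 = j) {A : C}
    (e : A ⟶ E.X j) (f : A ⟶ F.X i) :
    pair w i j hij e f ≫ (mappingCone.map w w' r s comm).f i =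
      pair w' i j hij (e ≫ r.f j) (f ≫ s.f i) := by
  subst hij
  simp [pair, mappingCone.map]

set_option maxHeartbeats 800000 in
/-- A commutative square whose sides `r`, `s` are quasi-isomorphisms induces a quasi-isomorphism
of mapping cones. -/
lemma quasiIso_map (comm : w ≫ s = r ≫ w') [QuasiIso r] [QuasiIso s] :
    QuasiIso (mappingCone.map w w' r s comm) := by
  refine ⟨fun i => ?_⟩
  rw [quasiIsoAt_iff_isIso_homologyMap]
  have er : ∀ i, Epi (HomologicalComplex.homologyMap r i) := fun i => inferInstance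
  have mr : ∀ i, Mono (HomologicalComplex.homologyMap r i) := fun i => inferInstance
  have es : ∀ i, Epi (HomologicalComplex.homologyMap s i) := fun i => inferInstance
  have ms : ∀ i, Mono (HomologicalComplex.homologyMap s i) := fun i => inferInstance
  obtain ⟨p, rfl⟩ : ∃ p, i = p + 1 := ⟨i - 1, by omega⟩
  have hc : ∀ j, w.f j ≫ s.f j = r.f j ≫ w'.f j := fun j => by
    simp only [← HomologicalComplex.comp_f, comm]
  have : Epi (HomologicalComplex.homologyMap (mappingCone.map w w' r s comm) (p + 1)) := by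
    rw [HomologicalComplex.epi_homologyMap_iff_up_to_refinements _ p (p + 1) (p + 1 + 1)
      (by simp) (by simp)]
    intro A y hy
    obtain ⟨e', f', rfl⟩ := exists_pair w' (p + 1) (p + 1 + 1) rfl y
    rw [pair_d w' _ _ (p + 1 + 1 + 1) rfl rfl, pair_eq_zero_iff, neg_eq_zero] at hy
    obtain ⟨he, hf⟩ := hy
    obtain ⟨A₁, π₁, hπ₁, e0, he0, a', ha'⟩ :=
      (HomologicalComplex.epi_homologyMap_iff_up_to_refinements r (p + 1) (p + 1 + 1) (p + 1 + 1 + 1)
        (by simp) (by simp)).1 (er _) e' he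
    have h1 : (e0 ≫ w.f (p + 1 + 1)) ≫ s.f (p + 1 + 1) =
        (-(π₁ ≫ f') - a' ≫ w'.f (p + 1)) ≫ F'.d (p + 1) (p + 1 + 1) := by
      have := congrArg (· ≫ w'.f (p + 1 + 1)) ha'
      simp only [Preadditive.add_comp, Category.assoc] at this
      rw [Category.assoc, hc, Preadditive.sub_comp, Preadditive.neg_comp, Category.assoc,
        Category.assoc, w'.comm, eq_sub_iff_add_eq, ← this, ← Preadditive.comp_neg,
        ← eq_neg_of_add_eq_zero_left hf]
    obtain ⟨A₂, π₂, hπ₂, h, hh⟩ :=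
      (HomologicalComplex.mono_homologyMap_iff_up_to_refinements s (p + 1) (p + 1 + 1) (p + 1 + 1 + 1)
        (by simp) (by simp)).1 (ms _) (e0 ≫ w.f (p + 1 + 1))
        (by rw [Category.assoc, w.comm, reassoc_of% he0, zero_comp]) _ h1
    have h3 : (π₂ ≫ π₁ ≫ f' + π₂ ≫ a' ≫ w'.f (p + 1) + h ≫ s.f (p + 1)) ≫ F'.d (p + 1) (p + 1 + 1) = 0 := by
      have h2 := congrArg (π₂ ≫ ·) h1
      simp only [Category.assoc, Preadditive.sub_comp, Preadditive.neg_comp, Preadditive.comp_sub,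
        Preadditive.comp_neg] at h2
      simp only [Preadditive.add_comp, Category.assoc, s.comm]
      rw [← reassoc_of% hh, h2]
      abel
    obtain ⟨A₃, π₃, hπ₃, z, hz, m, hm⟩ :=
      (HomologicalComplex.epi_homologyMap_iff_up_to_refinements s p (p + 1) (p + 1 + 1)
        (by simp) (by simp)).1 (es _) _ h3
    refine ⟨A₃, π₃ ≫ π₂ ≫ π₁, inferInstance,
      pair w (p + 1) (p + 1 + 1) rfl (π₃ ≫ π₂ ≫ e0) (z - π₃ ≫ h), ?_,
      pair w' p (p + 1) rfl (-(π₃ ≫ π₂ ≫ a')) m, ?_⟩
    · rw [pair_d w _ _ (p + 1 + 1 + 1) rfl rfl, pair_eq_zero_iff]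
      constructor
      · simp [he0]
      · simp [hz, hh]
    · rw [comp_pair, pair_map w comm, pair_d w' _ _ _ rfl rfl, ← pair_add]
      congr 1
      · simp only [Category.assoc, Preadditive.neg_comp, neg_neg]
        rw [ha']
        simp
      · simp only [Preadditive.comp_add] at hm
        simp only [Category.assoc, Preadditive.neg_comp, Preadditive.sub_comp]
        exact eq_of_eq_of_sub_eq hm (by abel)
  have : Mono (HomologicalComplex.homologyMap (mappingCone.map w w' r s comm) (p + 1)) := by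
    rw [HomologicalComplex.mono_homologyMap_iff_up_to_refinements _ p (p + 1) (p + 1 + 1)
      (by simp) (by simp)]
    intro A x hx y hxy
    obtain ⟨e, f, rfl⟩ := exists_pair w (p + 1) (p + 1 + 1) rfl x
    obtain ⟨a', m, rfl⟩ := exists_pair w' p (p + 1) rfl y
    rw [pair_d w _ _ (p + 1 + 1 + 1) rfl rfl, pair_eq_zero_iff, neg_eq_zero] at hx
    rw [pair_map w comm, pair_d w' _ _ _ rfl rfl] at hxy
    obtain ⟨hre, hsf⟩ := pair_ext w' hxy
    obtain ⟨A₁, π₁, hπ₁, a₀, ha₀⟩ :=
      (HomologicalComplex.mono_homologyMap_iff_up_to_refinements r (p + 1) (p + 1 + 1) (p + 1 + 1 + 1)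
        (by simp) (by simp)).1 (mr _) e hx.1 (-a') (by simpa using hre)
    have h3 : (π₁ ≫ a' + a₀ ≫ r.f (p + 1)) ≫ E'.d (p + 1) (p + 1 + 1) = 0 := by
      simp only [Preadditive.add_comp, Category.assoc, r.comm]
      rw [← reassoc_of% ha₀, ← Preadditive.comp_add, hre, add_neg_cancel, comp_zero]
    obtain ⟨A₂, π₂, hπ₂, c, hc', n', hn⟩ :=
      (HomologicalComplex.epi_homologyMap_iff_up_to_refinements r p (p + 1) (p + 1 + 1)
        (by simp) (by simp)).1 (er _) _ h3
    simp only [Preadditive.comp_add] at hn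
    have h4 : (π₂ ≫ π₁ ≫ f - (c - π₂ ≫ a₀) ≫ w.f (p + 1)) ≫ F.d (p + 1) (p + 1 + 1) = 0 := by
      simp only [Preadditive.sub_comp, Category.assoc, w.comm, reassoc_of% hc', zero_comp]
      rw [eq_neg_of_add_eq_zero_right hx.2]
      simp [reassoc_of% ha₀]
    have h5 : (π₂ ≫ π₁ ≫ f - (c - π₂ ≫ a₀) ≫ w.f (p + 1)) ≫ s.f (p + 1) =
        (π₂ ≫ π₁ ≫ m + n' ≫ w'.f p) ≫ F'.d p (p + 1) := by
      have e1 : π₂ ≫ π₁ ≫ a' = c ≫ r.f (p + 1) + n' ≫ E'.d p (p + 1) - π₂ ≫ a₀ ≫ r.f (p + 1) :=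
        eq_sub_of_add_eq hn
      have e2 := congrArg (fun t => π₂ ≫ π₁ ≫ t) hsf
      simp only [Preadditive.comp_add] at e2
      simp only [Preadditive.sub_comp, Preadditive.add_comp, Category.assoc, hc]
      rw [e2, reassoc_of% e1, w'.comm]
      simp only [Preadditive.sub_comp, Preadditive.add_comp, Category.assoc]
      abel
    obtain ⟨A₃, π₃, hπ₃, b, hb⟩ :=
      (HomologicalComplex.mono_homologyMap_iff_up_to_refinements s p (p + 1) (p + 1 + 1)
        (by simp) (by simp)).1 (ms _) _ h4 _ h5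
    refine ⟨A₃, π₃ ≫ π₂ ≫ π₁, inferInstance, pair w p (p + 1) rfl (π₃ ≫ (c - π₂ ≫ a₀)) b, ?_⟩
    rw [comp_pair, pair_d w _ _ _ rfl rfl]
    congr 1
    · simp [ha₀, hc']
    · simp only [Category.assoc, Preadditive.comp_sub, Preadditive.sub_comp] at hb ⊢
      exact eq_of_eq_of_sub_eq hb (by abel)
  exact isIso_of_mono_of_epi _

lemma exactAt_iff_of_map (comm : w ≫ s = r ≫ w') [QuasiIso r] [QuasiIso s] (i : ℤ) :
    (mappingCone w).ExactAt i ↔ (mappingCone w').ExactAt i := by
  have := quasiIso_map w comm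
  exact exactAt_iff_of_quasiIsoAt (mappingCone.map w w' r s comm) i

/-- Homology of the cones is unchanged. -/
lemma homology_iso_of_map (comm : w ≫ s = r ≫ w') [QuasiIso r] [QuasiIso s] (i : ℤ) :
    Nonempty ((mappingCone w).homology i ≅ (mappingCone w').homology i) := by
  have := quasiIso_map w comm
  exact ⟨isoOfQuasiIsoAt (mappingCone.map w w' r s comm) i⟩

end Groth.Agent.Lib.PCoh.Cone
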