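/-
Extension of a complex along a map into a mapping cone.
-/
import Groth.Agent.Lib.PCoh.Cone

set_option autoImplicit false

open CategoryTheory CategoryTheory.Limits CochainComplex Groth.Agent.Lib.PCoh.Cone

namespace Groth.Agent.Lib.PCoh.Ext

universe v u

variable {C : Type u} [Category.{v} C] [Abelian C]
variable {E F Q : CochainComplex C ℤ} {u : E ⟶ F}

/-- Data of a map `Q ⟶ mappingCone u`, in components. -/
structure ExtData (u : E ⟶ F) (Q : CochainComplex C ℤ) where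
  /-- component into `E` -/
  a : ∀ i : ℤ, Q.X i ⟶ E.X (i + 1)
  /-- component into `F` -/
  b : ∀ i : ℤ, Q.X i ⟶ F.X i
  ha : ∀ i : ℤ, a i ≫ E.d (i + 1) (i + 1 + 1) + Q.d i (i + 1) ≫ a (i + 1) = 0
  hb : ∀ i : ℤ, Q.d i (i + 1) ≫ b (i + 1) = a i ≫ u.f (i + 1) + b i ≫ F.d i (i + 1)

/-- From a map into the cone. -/
noncomputable def ExtData.ofHom (x : Q ⟶ mappingCone u) : ExtData u Q where
  a i := x.f i ≫ (mappingCone.fst u).1.v i (i + 1) rfl
  b i := x.f i ≫ (mappingCone.snd u).v i i (add_zero i)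
  ha i := by
    rw [← x.comm_assoc, mappingCone.d_fst_v u i (i + 1) (i + 1 + 1) rfl rfl]
    simp
  hb i := by
    rw [← x.comm_assoc, mappingCone.d_snd_v u i (i + 1) rfl]
    simp

namespace ExtData

variable (x : ExtData u Q)

/-- The extended complex. -/
noncomputable def cx : CochainComplex C ℤ :=
  CochainComplex.of (fun i => E.X i ⊞ Q.X i)
    (fun i => biprod.desc (E.d i (i + 1) ≫ biprod.inl)
      (x.a i ≫ biprod.inl + Q.d i (i + 1) ≫ biprod.inr))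
    (fun i => by
      apply biprod.hom_ext'
      · simp
      · simp
        rw [← Category.assoc, ← Category.assoc (Q.d i (i + 1)), ← Preadditive.add_comp, x.ha i, zero_comp])

lemma cx_X (i : ℤ) : x.cx.X i = (E.X i ⊞ Q.X i) := rfl

/-- inclusion of `E` in degree `i` -/
noncomputable def ι₁ (i : ℤ) : E.X i ⟶ x.cx.X i := (biprod.inl : E.X i ⟶ E.X i ⊞ Q.X i)

/-- inclusion of `Q` in degree `i` -/
noncomputable def ι₂ (i : ℤ) : Q.X i ⟶ x.cx.X i := (biprod.inr : Q.X i ⟶ E.X i ⊞ Q.X i)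

/-- projection onto `E` in degree `i` -/
noncomputable def π₁ (i : ℤ) : x.cx.X i ⟶ E.X i := (biprod.fst : E.X i ⊞ Q.X i ⟶ E.X i)

/-- projection onto `Q` in degree `i` -/
noncomputable def π₂ (i : ℤ) : x.cx.X i ⟶ Q.X i := (biprod.snd : E.X i ⊞ Q.X i ⟶ Q.X i)

@[reassoc (attr := simp)] lemma ι₁_π₁ (i : ℤ) : x.ι₁ i ≫ x.π₁ i = 𝟙 _ := biprod.inl_fst
@[reassoc (attr := simp)] lemma ι₁_π₂ (i : ℤ) : x.ι₁ i ≫ x.π₂ i = 0 := biprod.inl_snd
@[reassoc (attr := simp)] lemma ι₂_π₁ (i : ℤ) : x.ι₂ i ≫ x.π₁ i = 0 := biprod.inr_fst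
@[reassoc (attr := simp)] lemma ι₂_π₂ (i : ℤ) : x.ι₂ i ≫ x.π₂ i = 𝟙 _ := biprod.inr_snd

lemma ext_from {i : ℤ} {T : C} {f g : x.cx.X i ⟶ T} (h₁ : x.ι₁ i ≫ f = x.ι₁ i ≫ g)
    (h₂ : x.ι₂ i ≫ f = x.ι₂ i ≫ g) : f = g :=
  biprod.hom_ext' _ _ h₁ h₂

lemma ext_to {i : ℤ} {T : C} {f g : T ⟶ x.cx.X i} (h₁ : f ≫ x.π₁ i = g ≫ x.π₁ i)
    (h₂ : f ≫ x.π₂ i = g ≫ x.π₂ i) : f = g :=
  biprod.hom_ext _ _ h₁ h₂

lemma decomp {i : ℤ} {T : C} (f : T ⟶ x.cx.X i) :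
    f = (f ≫ x.π₁ i) ≫ x.ι₁ i + (f ≫ x.π₂ i) ≫ x.ι₂ i := by
  apply x.ext_to <;> simp

@[reassoc (attr := simp)]
lemma ι₁_d (i : ℤ) : x.ι₁ i ≫ x.cx.d i (i + 1) = E.d i (i + 1) ≫ x.ι₁ (i + 1) := by
  dsimp only [cx]
  erw [CochainComplex.of_d]
  exact biprod.inl_desc _ _

@[reassoc (attr := simp)]
lemma ι₂_d (i : ℤ) : x.ι₂ i ≫ x.cx.d i (i + 1) =
    x.a i ≫ x.ι₁ (i + 1) + Q.d i (i + 1) ≫ x.ι₂ (i + 1) := by
  dsimp only [cx]
  erw [CochainComplex.of_d]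
  exact biprod.inr_desc _ _

/-- The inclusion. -/
noncomputable def incl : E ⟶ x.cx where
  f := x.ι₁
  comm' i j hij := by
    obtain rfl : i + 1 = j := hij
    exact x.ι₁_d i

@[simp] lemma incl_f (i : ℤ) : x.incl.f i = x.ι₁ i := rfl

/-- The extended map in degree `i`. -/
noncomputable def descF (i : ℤ) : x.cx.X i ⟶ F.X i :=
  (biprod.desc (u.f i) (-(x.b i)) : E.X i ⊞ Q.X i ⟶ F.X i)

@[reassoc (attr := simp)] lemma ι₁_descF (i : ℤ) : x.ι₁ i ≫ x.descF i = u.f i := biprod.inl_desc _ _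
@[reassoc (attr := simp)] lemma ι₂_descF (i : ℤ) : x.ι₂ i ≫ x.descF i = -(x.b i) := biprod.inr_desc _ _

/-- The extended map. -/
noncomputable def desc : x.cx ⟶ F where
  f := x.descF
  comm' i j hij := by
    obtain rfl : i + 1 = j := hij
    apply x.ext_from
    · simp
    · simp [x.hb i]

@[simp] lemma desc_f (i : ℤ) : x.desc.f i = x.descF i := rfl

@[reassoc (attr := simp)]
lemma incl_desc : x.incl ≫ x.desc = u := by
  ext i
  simp

lemma mono_incl_f (i : ℤ) : Mono (x.incl.f i) :=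
  mono_of_mono_fac (x.ι₁_π₁ i)

lemma isIso_incl_f (i : ℤ) (h : IsZero (Q.X i)) : IsIso (x.incl.f i) :=
  ⟨x.π₁ i, x.ι₁_π₁ i, x.ext_from (by simp) (h.eq_of_src _ _)⟩

/-- the map to the cone attached to the data -/
noncomputable def toCone : Q ⟶ mappingCone u where
  f i := pair u i (i + 1) rfl (x.a i) (x.b i)
  comm' i j hij := by
    obtain rfl : i + 1 = j := hij
    rw [pair_d u i (i + 1) (i + 1 + 1) rfl rfl, comp_pair]
    congr 1
    · exact neg_eq_of_add_eq_zero_right (x.ha i)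
    · exact (x.hb i).symm

set_option maxHeartbeats 800000 in
lemma exactAt_desc (p i : ℤ) (hpi : p + 1 = i)
    (he : Epi (HomologicalComplex.homologyMap x.toCone i))
    (hm : Mono (HomologicalComplex.homologyMap x.toCone (i + 1))) :
    (mappingCone x.desc).ExactAt i := by
  subst hpi
  rw [exactAt_iff x.desc p (p + 1) (p + 1 + 1) (p + 1 + 1 + 1) rfl rfl rfl]
  intro A e' f h₁ h₂
  obtain ⟨e, q, rfl⟩ : ∃ (e : A ⟶ E.X (p + 1 + 1)) (q : A ⟶ Q.X (p + 1 + 1)),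
      e' = e ≫ x.ι₁ _ + q ≫ x.ι₂ _ := ⟨_, _, x.decomp e'⟩
  have h₁a : e ≫ E.d _ _ + q ≫ x.a _ = 0 := by
    simpa using congrArg (· ≫ x.π₁ _) h₁
  have h₁b : q ≫ Q.d (p + 1 + 1) (p + 1 + 1 + 1) = 0 := by
    simpa using congrArg (· ≫ x.π₂ _) h₁
  simp only [desc_f, Preadditive.add_comp, Category.assoc, ι₁_descF, ι₂_descF, Preadditive.comp_neg] at h₂
  obtain ⟨A₁, π₁, hπ₁, q₁, hq₁⟩ :=
    (HomologicalComplex.mono_homologyMap_iff_up_to_refinements x.toCone (p + 1) (p + 1 + 1)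
      (p + 1 + 1 + 1) (by simp) (by simp)).1 hm q h₁b (pair u (p + 1) (p + 1 + 1) rfl e f) (by
        rw [pair_d u (p + 1) (p + 1 + 1) (p + 1 + 1 + 1) rfl rfl]
        change q ≫ pair u (p + 1 + 1) (p + 1 + 1 + 1) rfl (x.a _) (x.b _) = _
        rw [comp_pair]
        congr 1
        · exact eq_neg_of_add_eq_zero_right h₁a
        · exact eq_of_eq_of_sub_eq h₂.symm (by abel))
  have hz : pair u (p + 1) (p + 1 + 1) rfl (π₁ ≫ e - q₁ ≫ x.a (p + 1)) (π₁ ≫ f - q₁ ≫ x.b (p + 1)) ≫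
      (mappingCone u).d (p + 1) (p + 1 + 1) = 0 := by
    rw [pair_d u _ _ (p + 1 + 1 + 1) rfl rfl, pair_eq_zero_iff, neg_eq_zero]
    refine ⟨?_, ?_⟩
    · simp only [Preadditive.sub_comp, Category.assoc, eq_neg_of_add_eq_zero_left h₁a,
        eq_neg_of_add_eq_zero_left (x.ha (p + 1)), Preadditive.comp_neg, reassoc_of% hq₁]
      abel
    · have := congrArg (π₁ ≫ ·) h₂
      simp only [Preadditive.comp_add, Preadditive.comp_neg, Category.assoc, comp_zero] at this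
      have hb := congrArg (q₁ ≫ ·) (x.hb (p + 1))
      simp only [Preadditive.comp_add] at hb
      simp only [Preadditive.sub_comp, Category.assoc, reassoc_of% hq₁] at this ⊢
      rw [hb] at this
      exact eq_of_eq_of_sub_eq this (by abel)
  obtain ⟨A₂, π₂, hπ₂, q₂, hq₂, y, hy⟩ :=
    (HomologicalComplex.epi_homologyMap_iff_up_to_refinements x.toCone p (p + 1) (p + 1 + 1)
      (by simp) (by simp)).1 he _ hz
  obtain ⟨a₁, b₁, rfl⟩ := exists_pair u p (p + 1) rfl y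
  have hy' : π₂ ≫ pair u (p + 1) (p + 1 + 1) rfl (π₁ ≫ e - q₁ ≫ x.a (p + 1))
      (π₁ ≫ f - q₁ ≫ x.b (p + 1)) =
      q₂ ≫ pair u (p + 1) (p + 1 + 1) rfl (x.a (p + 1)) (x.b (p + 1)) +
        pair u p (p + 1) rfl a₁ b₁ ≫ (mappingCone u).d p (p + 1) := hy
  rw [comp_pair, comp_pair, pair_d u p (p + 1) (p + 1 + 1) rfl rfl, ← pair_add] at hy'
  obtain ⟨ye, yf⟩ := pair_ext u hy'
  simp only [Preadditive.comp_sub] at ye yf
  refine ⟨A₂, π₂ ≫ π₁, inferInstance, a₁ ≫ x.ι₁ _ + (-(π₂ ≫ q₁ + q₂)) ≫ x.ι₂ _, b₁, ?_, ?_⟩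
  · apply x.ext_to
    · simp only [Category.assoc, Preadditive.neg_comp, Preadditive.add_comp,
        Preadditive.comp_add, ι₁_π₁, ι₂_π₁, ι₁_d_assoc, ι₂_d_assoc, comp_zero, add_zero,
        Category.comp_id, neg_neg, neg_add_rev]
      exact eq_of_eq_of_sub_eq ye (by abel)
    · simp [hq₂, hq₁]
  · simp only [desc_f, Category.assoc, Preadditive.neg_comp, Preadditive.comp_neg, neg_neg,
      Preadditive.add_comp, ι₁_descF, ι₂_descF]
    exact eq_of_eq_of_sub_eq yf (by abel)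

lemma exactAt_desc_of_isZero (i : ℤ) (h2 : IsZero (Q.X (i + 1)))
    (h : (mappingCone u).ExactAt i) : (mappingCone x.desc).ExactAt i := by
  refine x.exactAt_desc (i - 1) i (by omega) ⟨fun _ _ _ => ?_⟩ ?_
  · exact ((HomologicalComplex.exactAt_iff_isZero_homology _ i).1 h).eq_of_src _ _
  · exact ⟨fun _ _ _ => ((HomologicalComplex.exactAt_iff_isZero_homology _ _).1
      (HomologicalComplex.ExactAt.of_isZero h2)).eq_of_tgt _ _⟩

end ExtData

end Groth.Agent.Lib.PCoh.Ext
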