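/-
Construction of strictly `n`-pseudo-coherent resolutions.
-/
import Groth.Agent.Lib.PCoh.Ext
import Groth.Agent.Lib.PCoh.Basic
import Mathlib.Algebra.Homology.Embedding.CochainComplex
import Mathlib.Algebra.Homology.Embedding.TruncLEHomology
import Mathlib.Algebra.Homology.HomotopyCategory.MappingCocone
import Mathlib.Algebra.Homology.HomotopyCategory.ShiftSequence
import Mathlib.Algebra.Homology.HomologicalComplexBiprod
import Mathlib.Algebra.Homology.HomologicalComplexLimits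
import Mathlib.Algebra.Homology.HomologicalComplexAbelian
import Mathlib.Algebra.Homology.SingleHomology

set_option autoImplicit false
set_option linter.unusedSectionVars false

open CategoryTheory CategoryTheory.Limits CochainComplex
open _root_.PCoh Groth.Agent.Lib.PCoh.Cone Groth.Agent.Lib.PCoh.Ext Groth.Agent.Lib.PCoh.Basic

namespace Groth.Agent.Lib.PCoh.Resolve

universe v u

variable {C : Type u} [Category.{v} C] [Abelian C] {P : ObjectProperty C}
variable {E F : CochainComplex C ℤ}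

lemma toCone_ofHom {Q : CochainComplex C ℤ} {u : E ⟶ F} (x : Q ⟶ mappingCone u) :
    (ExtData.ofHom x).toCone = x := by
  ext i
  apply mappingCone.ext_to u i (i + 1) rfl <;> simp [ExtData.toCone, ExtData.ofHom]

lemma exactGE_zero (F : CochainComplex C ℤ) {E : CochainComplex C ℤ} (hE : ∀ i, IsZero (E.X i))
    (u : E ⟶ F) {n : ℤ} (h : ∀ i, n ≤ i → F.ExactAt i) : ExactGE u n := fun i hi => by
  have : Epi (HomologicalComplex.homologyMap u i) :=
    ⟨fun _ _ _ => ((h i hi).isZero_homology).eq_of_src _ _⟩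
  have : Mono (HomologicalComplex.homologyMap u (i + 1)) :=
    ⟨fun _ _ _ => ((HomologicalComplex.ExactAt.of_isZero (hE (i + 1))).isZero_homology).eq_of_tgt _ _⟩
  exact exactAt_of_epi_of_mono u i (i + 1) rfl

/-- One step: kill `H^n` of the cone. -/
lemma step (hql : IsQuasiLiftable P) (n : ℤ) (u : E ⟶ F) (h : ExactGE u (n + 1))
    (hft : IsOfFiniteType P ((mappingCone u).homology n)) :
    ∃ (E' : CochainComplex C ℤ) (v : E ⟶ E') (u' : E' ⟶ F) (L : C) (q : E'.X n ⟶ L)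
      (_ : P L) (_ : Nonempty (E'.X n ≅ E.X n ⊞ L)),
      v ≫ u' = u ∧ (∀ i, Mono (v.f i)) ∧ (∀ i, i ≠ n → IsIso (v.f i)) ∧
      (∃ (s : L ⟶ E'.X n) (r : E'.X n ⟶ E.X n),
        v.f n ≫ q = 0 ∧ s ≫ q = 𝟙 L ∧ v.f n ≫ r = 𝟙 _ ∧ r ≫ v.f n + q ≫ s = 𝟙 _) ∧
      ExactGE u' n := by
  obtain ⟨L, v₀, hL, hv₀⟩ := exists_lift_of_ft hql ((mappingCone u).homologyπ n) hft
  let c : L ⟶ (mappingCone u).X n := v₀ ≫ (mappingCone u).iCycles n
  have hc : ∀ j, c ≫ (mappingCone u).d n j = 0 := fun j => by simp [c]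
  let x : (HomologicalComplex.single C (ComplexShape.up ℤ) n).obj L ⟶ mappingCone u :=
    HomologicalComplex.mkHomFromSingle c (fun i _ => hc i)
  let X := ExtData.ofHom x
  have hz : ∀ i, i ≠ n → IsZero (((HomologicalComplex.single C (ComplexShape.up ℤ) n).obj L).X i) :=
    fun i hi => HomologicalComplex.isZero_single_obj_X _ _ _ _ hi
  let eL := HomologicalComplex.singleObjXSelf (ComplexShape.up ℤ) n L
  refine ⟨X.cx, X.incl, X.desc, L, X.π₂ n ≫ eL.hom, hL, ?_, X.incl_desc, X.mono_incl_f,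
    fun i hi => X.isIso_incl_f i (hz i hi), ⟨eL.inv ≫ X.ι₂ n, X.π₁ n, ?_, ?_, ?_, ?_⟩, ?_⟩
  · exact ⟨biprod.mapIso (Iso.refl _) eL⟩
  · simp
  · simp
  · simp
  · simp only [Category.assoc, Iso.hom_inv_id_assoc, ExtData.incl_f]
    apply X.ext_from <;> simp
  · intro i hi
    rcases hi.lt_or_eq with hi | rfl
    · exact X.exactAt_desc_of_isZero i (hz _ (by omega)) (h i (by omega))
    · have hm : Mono (HomologicalComplex.homologyMap X.toCone (n + 1)) :=
        ⟨fun _ _ _ => ((HomologicalComplex.ExactAt.of_isZero (hz (n + 1) (by omega))).isZero_homology).eq_of_tgt _ _⟩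
      refine X.exactAt_desc (n - 1) n (by omega) ?_ hm
      rw [toCone_ofHom]
      let Q := (HomologicalComplex.single C (ComplexShape.up ℤ) n).obj L
      let m : L ⟶ Q.homology n := Q.liftCycles eL.inv (n + 1) (by simp)
        (((hz (n + 1) (by omega))).eq_of_tgt _ _) ≫ Q.homologyπ n
      have : m ≫ HomologicalComplex.homologyMap x n = v₀ ≫ (mappingCone u).homologyπ n := by
        simp only [m, Category.assoc, HomologicalComplex.homologyπ_naturality]
        rw [← Category.assoc, HomologicalComplex.liftCycles_comp_cyclesMap]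
        congr 1
        rw [← cancel_mono ((mappingCone u).iCycles n)]
        simp [x, c, eL]
      exact @epi_of_epi_fac _ _ _ _ _ _ _ _ hv₀ this

/-- Factor through a quasi-isomorphism by modifying only in degrees `< n`. -/
lemma finish (n : ℤ) (u : E ⟶ F) (h : ExactGE u n) :
    ∃ (E' : CochainComplex C ℤ) (v : E ⟶ E') (u' : E' ⟶ F), v ≫ u' = u ∧ QuasiIso u' ∧
      (∀ i, Mono (v.f i)) ∧ (∀ i, n ≤ i → IsIso (v.f i)) := by
  let K := mappingCone u
  let X := ExtData.ofHom (K.ιTruncLE (n - 1))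
  have hz : ∀ i, n ≤ i → IsZero ((K.truncLE (n - 1)).X i) := fun i hi =>
    CochainComplex.isZero_of_isStrictlyLE _ (n - 1) i (by omega)
  refine ⟨X.cx, X.incl, X.desc, X.incl_desc, ?_, X.mono_incl_f,
    fun i hi => X.isIso_incl_f i (hz i hi)⟩
  rw [Cone.quasiIso_iff]
  intro i
  by_cases hi : n ≤ i
  · exact X.exactAt_desc_of_isZero i (hz _ (by omega)) (h i hi)
  · have hq : ∀ j, j ≤ n - 1 → IsIso (HomologicalComplex.homologyMap (K.ιTruncLE (n - 1)) j) := by
      intro j hj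
      have := K.quasiIsoAt_ιTruncLE (n - 1) j hj
      rwa [quasiIsoAt_iff_isIso_homologyMap] at this
    refine X.exactAt_desc (i - 1) i (by omega) ?_ ?_
    · rw [toCone_ofHom]
      have := hq i (by omega)
      infer_instance
    · rw [toCone_ofHom]
      by_cases hi' : n ≤ i + 1
      · exact ⟨fun _ _ _ => ((HomologicalComplex.ExactAt.of_isZero (hz _ hi')).isZero_homology).eq_of_tgt _ _⟩
      · have := hq (i + 1) (by omega)
        infer_instance

variable (P) in
/-- `F` admits resolutions down to degree `n`. -/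
def Good (n : ℤ) (F : CochainComplex C ℤ) : Prop :=
  (∃ b : ℤ, ∀ i, b < i → F.ExactAt i) ∧
    ∀ (k : ℤ) (G : CochainComplex C ℤ) (w : G ⟶ F), n ≤ k → IsStrictPC P (k + 1) G →
      ExactGE w (k + 1) → IsOfFiniteType P ((mappingCone w).homology k)

lemma isStrictPC_mono {n m : ℤ} (h : IsStrictPC P n E) (hnm : n ≤ m) : IsStrictPC P m E :=
  ⟨h.1, fun i hi => h.2 i (hnm.trans hi)⟩

lemma isStrictPC_of_isIso [P.IsClosedUnderIsomorphisms] {n m : ℤ} (hE : IsStrictPC P n E)
    {E' : CochainComplex C ℤ} (v : E ⟶ E') (hv : ∀ i, m ≤ i → IsIso (v.f i)) (hmn : m ≤ n) :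
    IsStrictPC P n E' := by
  obtain ⟨⟨b, hb⟩, hP⟩ := hE
  refine ⟨⟨max b m, fun i hi => ?_⟩, fun i hi => ?_⟩
  · have := hv i (by omega)
    exact (hb i (by omega)).of_iso (asIso (v.f i)).symm
  · have := hv i (by omega)
    exact P.prop_of_iso (asIso (v.f i)) (hP i hi)

lemma descend [P.IsClosedUnderIsomorphisms] (hsum : ∀ X Y : C, P X → P Y → P (X ⨯ Y))
    (hql : IsQuasiLiftable P) {n : ℤ} (hF : Good P n F) (m : ℤ) (hm : n ≤ m) :
    ∀ (E : CochainComplex C ℤ) (u : E ⟶ F), IsStrictPC P n E → ExactGE u m →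
    ∃ (E' : CochainComplex C ℤ) (v : E ⟶ E') (u' : E' ⟶ F), v ≫ u' = u ∧ IsStrictPC P n E' ∧
      (∀ i, Mono (v.f i)) ∧ (∀ i, m ≤ i → IsIso (v.f i)) ∧ ExactGE u' n := by
  induction m, hm using Int.leInduction with
  | base =>
    intro E u hE h
    exact ⟨E, 𝟙 E, u, Category.id_comp u, hE, fun i => by simp; infer_instance,
      fun i _ => by simp; infer_instance, h⟩
  | succ m hm ih =>
    intro E u hE h
    obtain ⟨E₁, v₁, u₁, L, q, hL, ⟨e⟩, hf, hmono, hiso, -, h₁⟩ :=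
      step hql m u h (hF.2 m E u hm (isStrictPC_mono hE (by omega)) h)
    have hE₁ : IsStrictPC P n E₁ := by
      obtain ⟨⟨b, hb⟩, hP⟩ := hE
      refine ⟨⟨max b m, fun i hi => ?_⟩, fun i hi => ?_⟩
      · have := hiso i (by omega)
        exact (hb i (by omega)).of_iso (asIso (v₁.f i)).symm
      · by_cases him : i = m
        · subst him
          exact P.prop_of_iso e.symm (biprod_mem hsum (hP i hi) hL)
        · have := hiso i him
          exact P.prop_of_iso (asIso (v₁.f i)) (hP i hi)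
    obtain ⟨E₂, v₂, u₂, hf₂, hE₂, hmono₂, hiso₂, h₂⟩ := ih E₁ u₁ hE₁ h₁
    refine ⟨E₂, v₁ ≫ v₂, u₂, by rw [Category.assoc, hf₂, hf], hE₂, fun i => ?_, fun i hi => ?_, h₂⟩
    · have := hmono i
      have := hmono₂ i
      rw [HomologicalComplex.comp_f]
      infer_instance
    · have := hiso i (by omega)
      have := hiso₂ i (by omega)
      rw [HomologicalComplex.comp_f]
      infer_instance

/-- Factorisation of an `m`-quasi-isomorphism out of a strictly `n`-pseudo-coherent complex. -/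
lemma exists_factorisation [P.IsClosedUnderIsomorphisms] (hsum : ∀ X Y : C, P X → P Y → P (X ⨯ Y))
    (hql : IsQuasiLiftable P) {n : ℤ} (hF : Good P n F) (m : ℤ) (u : E ⟶ F)
    (hE : IsStrictPC P n E) (h : ExactGE u m) :
    ∃ (E' : CochainComplex C ℤ) (v : E ⟶ E') (u' : E' ⟶ F), v ≫ u' = u ∧ IsStrictPC P n E' ∧
      QuasiIso u' ∧ (∀ i, Mono (v.f i)) ∧ (∀ i, m ≤ i → IsIso (v.f i)) := by
  by_cases hm : m ≤ n
  · obtain ⟨E', v, u', hf, hq, hmono, hiso⟩ := finish m u h
    exact ⟨E', v, u', hf, isStrictPC_of_isIso hE v hiso hm, hq, hmono, hiso⟩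
  · obtain ⟨E₁, v₁, u₁, hf₁, hE₁, hmono₁, hiso₁, h₁⟩ :=
      descend hsum hql hF m (by omega) E u hE h
    obtain ⟨E₂, v₂, u₂, hf₂, hq, hmono₂, hiso₂⟩ := finish n u₁ h₁
    refine ⟨E₂, v₁ ≫ v₂, u₂, by rw [Category.assoc, hf₂, hf₁],
      isStrictPC_of_isIso hE₁ v₂ hiso₂ le_rfl, hq, fun i => ?_, fun i hi => ?_⟩
    · have := hmono₁ i
      have := hmono₂ i
      rw [HomologicalComplex.comp_f]
      infer_instance
    · have := hiso₁ i hi
      have := hiso₂ i (by omega)
      rw [HomologicalComplex.comp_f]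
      infer_instance

lemma isStrictPC_zero [P.ContainsZero] [P.IsClosedUnderIsomorphisms] {E : CochainComplex C ℤ}
    (hE : ∀ i, IsZero (E.X i)) (n : ℤ) : IsStrictPC P n E :=
  ⟨⟨0, fun i _ => hE i⟩, fun i _ => mem_of_isZero (hE i)⟩

open ZeroObject in
/-- Strictly pseudo-coherent resolution; it vanishes in degrees where `F` is acyclic upwards. -/
lemma exists_resolution [P.ContainsZero] [P.IsClosedUnderIsomorphisms]
    (hsum : ∀ X Y : C, P X → P Y → P (X ⨯ Y)) (hql : IsQuasiLiftable P) {n : ℤ}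
    (hF : Good P n F) (m : ℤ) (hm : ∀ i, m ≤ i → F.ExactAt i) :
    ∃ (G : CochainComplex C ℤ) (s : G ⟶ F), IsStrictPC P n G ∧ QuasiIso s ∧
      ∀ i, m ≤ i → IsZero (G.X i) := by
  let Z : CochainComplex C ℤ := CochainComplex.of (fun _ => (0 : C)) (fun _ => 0) (by simp)
  have hZ : ∀ i, IsZero (Z.X i) := fun i => isZero_zero C
  obtain ⟨G, v, s, -, hG, hs, -, hiso⟩ := exists_factorisation hsum hql hF m (0 : Z ⟶ F)
    (isStrictPC_zero hZ n) (exactGE_zero F hZ 0 hm)
  exact ⟨G, s, hG, hs, fun i hi => by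
    have := hiso i hi
    exact (hZ i).of_iso (asIso (v.f i)).symm⟩

lemma Good.mono {n m : ℤ} (h : Good P n F) (hnm : n ≤ m) : Good P m F :=
  ⟨h.1, fun k G w hk hG hw => h.2 k G w (hnm.trans hk) hG hw⟩

lemma good_of_strict [P.IsClosedUnderIsomorphisms] (hsum : ∀ X Y : C, P X → P Y → P (X ⨯ Y))
    (hqs : IsQuasiStableUnderKernels P) {n : ℤ} (hF : IsStrictPC P n F) : Good P n F := by
  obtain ⟨⟨b, hb⟩, hP⟩ := hF
  refine ⟨⟨b, fun i hi => HomologicalComplex.ExactAt.of_isZero (hb i hi)⟩, fun k G w hk hG hw => ?_⟩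
  obtain ⟨⟨b', hb'⟩, hP'⟩ := hG
  refine ft_homology hqs k (mappingCone w) ⟨⟨max b b', fun i hi => ?_⟩, fun i hi => ?_⟩
    (fun i hi => hw i (by omega))
  · rw [mappingCone.isZero_X_iff]
    exact ⟨hb' _ (by omega), hb _ (by omega)⟩
  · exact P.prop_of_iso (HomologicalComplex.homotopyCofiber.XIsoBiprod w i (i + 1) rfl).symm
      (biprod_mem hsum (hP' _ (by omega)) (hP i (by omega)))

/-- The easy direction of the invariance. -/
lemma good_of_quasiIso {n : ℤ} (s : E ⟶ F) [QuasiIso s] (hF : Good P n F) : Good P n E := by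
  obtain ⟨⟨b, hb⟩, hF⟩ := hF
  refine ⟨⟨b, fun i hi => (exactAt_iff_of_quasiIsoAt s i).2 (hb i hi)⟩, fun k G w hk hG hw => ?_⟩
  have comm : w ≫ s = 𝟙 G ≫ (w ≫ s) := (Category.id_comp _).symm
  obtain ⟨e⟩ := homology_iso_of_map w comm k
  exact ft_of_iso (hF k G (w ≫ s) hk hG
    (fun i hi => (exactAt_iff_of_map w comm i).1 (hw i hi))) e.symm

lemma exactAt_cocone_id (F : CochainComplex C ℤ) (i : ℤ) : (mappingCocone (𝟙 F)).ExactAt i := by
  have h : (mappingCone (𝟙 F)).ExactAt (i - 1) := (Cone.quasiIso_iff (𝟙 F)).1 inferInstance _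
  rw [HomologicalComplex.exactAt_iff_isZero_homology] at h ⊢
  exact h.of_iso (((HomologicalComplex.homologyFunctor C (ComplexShape.up ℤ) 0).shiftIso
    (-1 : ℤ) i (i - 1) (by omega)).app (mappingCone (𝟙 F)))

lemma exists_epi_cover (s : E ⟶ F) [QuasiIso s] :
    ∃ (E₁ : CochainComplex C ℤ) (r : E₁ ⟶ E) (p : E₁ ⟶ F), QuasiIso r ∧ QuasiIso p ∧
      ∀ i, Epi (p.f i) := by
  let D := mappingCocone (𝟙 F)
  let p : E ⊞ D ⟶ F := biprod.desc s (mappingCocone.fst (𝟙 F))
  have hr : QuasiIso (biprod.fst : E ⊞ D ⟶ E) := by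
    refine ⟨fun i => ?_⟩
    rw [quasiIsoAt_iff_isIso_homologyMap]
    refine ⟨HomologicalComplex.homologyMap biprod.inl i, ?_, ?_⟩
    · rw [← HomologicalComplex.homologyMap_comp,
        show (biprod.fst : E ⊞ D ⟶ E) ≫ biprod.inl = 𝟙 _ - biprod.snd ≫ biprod.inr from
          eq_sub_of_add_eq biprod.total,
        HomologicalComplex.homologyMap_sub, HomologicalComplex.homologyMap_id,
        HomologicalComplex.homologyMap_comp,
        (exactAt_cocone_id F i).isZero_homology.eq_of_tgt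
          (HomologicalComplex.homologyMap (biprod.snd : E ⊞ D ⟶ D) i) 0]
      simp
    · rw [← HomologicalComplex.homologyMap_comp, biprod.inl_fst, HomologicalComplex.homologyMap_id]
  refine ⟨E ⊞ D, biprod.fst, p, hr, ?_, fun i => ?_⟩
  · have : QuasiIso (biprod.inl : E ⟶ E ⊞ D) := by
      have : QuasiIso ((biprod.inl : E ⟶ E ⊞ D) ≫ biprod.fst) := by
        rw [biprod.inl_fst]; infer_instance
      exact quasiIso_of_comp_right _ biprod.fst
    have : QuasiIso ((biprod.inl : E ⟶ E ⊞ D) ≫ p) := by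
      simp only [p, biprod.inl_desc]; infer_instance
    exact quasiIso_of_comp_left biprod.inl p
  · have h : ((mappingCocone.inl (𝟙 F)).v i i (add_zero i) ≫ (biprod.inr : D ⟶ E ⊞ D).f i) ≫ p.f i
        = 𝟙 _ := by
      rw [Category.assoc, ← HomologicalComplex.comp_f]
      simp [p]
    exact epi_of_epi_fac h

/-- Base change of a quasi-isomorphism which is epi in each degree. -/
lemma exists_cover_of_epi {E₁ G : CochainComplex C ℤ} (p : E₁ ⟶ F) [QuasiIso p] [∀ i, Epi (p.f i)]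
    (w : G ⟶ F) : ∃ (G' : CochainComplex C ℤ) (r : G' ⟶ G) (q : G' ⟶ E₁),
      QuasiIso r ∧ r ≫ w = q ≫ p := by
  refine ⟨pullback w p, pullback.fst w p, pullback.snd w p, ?_, pullback.condition⟩
  rw [Cone.quasiIso_iff]
  intro k
  obtain ⟨i, rfl⟩ : ∃ i, k = i + 1 := ⟨k - 1, by omega⟩
  rw [Cone.exactAt_iff _ i (i + 1) (i + 1 + 1) (i + 1 + 1 + 1) rfl rfl rfl]
  intro A e f he hef
  have pb : ∀ j, IsPullback ((pullback.fst w p).f j) ((pullback.snd w p).f j) (w.f j) (p.f j) :=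
    fun j => (IsPullback.of_hasPullback w p).map (HomologicalComplex.eval C (ComplexShape.up ℤ) j)
  obtain ⟨A₁, π₁, hπ₁, g, hg⟩ := surjective_up_to_refinements_of_epi (p.f (i + 1)) (f ≫ w.f (i + 1))
  let y := e ≫ (pullback.snd w p).f (i + 1 + 1)
  let z := π₁ ≫ y + g ≫ E₁.d (i + 1) (i + 1 + 1)
  have hz₁ : z ≫ E₁.d (i + 1 + 1) (i + 1 + 1 + 1) = 0 := by
    simp [z, y, HomologicalComplex.Hom.comm, reassoc_of% he]
  have hz₂ : z ≫ p.f (i + 1 + 1) = 0 := by
    have h1 : y ≫ p.f (i + 1 + 1) = e ≫ (pullback.fst w p).f (i + 1 + 1) ≫ w.f (i + 1 + 1) := by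
      simp [y, (pb (i + 1 + 1)).w]
    simp only [z, Preadditive.add_comp, Category.assoc, h1, ← p.comm]
    rw [← reassoc_of% hg, ← Preadditive.comp_add, w.comm, ← Category.assoc e,
      ← Category.assoc f, ← Preadditive.add_comp, hef, zero_comp, comp_zero]
  obtain ⟨A₂, π₂, hπ₂, t, ht⟩ :=
    (HomologicalComplex.mono_homologyMap_iff_up_to_refinements p (i + 1) (i + 1 + 1) (i + 1 + 1 + 1)
      (by simp) (by simp)).1 inferInstance z hz₁ 0 (by rw [hz₂, zero_comp])
  obtain ⟨A₃, π₃, hπ₃, c, hc, m, hm⟩ :=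
    (HomologicalComplex.epi_homologyMap_iff_up_to_refinements p i (i + 1) (i + 1 + 1)
      (by simp) (by simp)).1 inferInstance (t ≫ p.f (i + 1)) (by
        rw [Category.assoc, p.comm, ← reassoc_of% ht, hz₂, comp_zero])
  obtain ⟨A₄, π₄, hπ₄, n, hn⟩ := surjective_up_to_refinements_of_epi (p.f i) m
  let π := π₄ ≫ π₃ ≫ π₂
  let k₀ := π₄ ≫ π₃ ≫ t - π₄ ≫ c - n ≫ E₁.d i (i + 1)
  have hk₁ : k₀ ≫ E₁.d (i + 1) (i + 1 + 1) = π ≫ z := by simp [k₀, π, hc, ht]
  have hk₂ : k₀ ≫ p.f (i + 1) = 0 := by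
    have := congrArg (π₄ ≫ ·) hm
    simp only [Preadditive.comp_add, reassoc_of% hn] at this
    simp only [k₀, Preadditive.sub_comp, Category.assoc, this, p.comm]
    abel
  refine ⟨A₄, π ≫ π₁, inferInstance,
    (pb (i + 1)).lift (π ≫ π₁ ≫ f) (π ≫ g - k₀) ?_, 0, ?_, ?_⟩
  · simp only [Preadditive.sub_comp, Category.assoc, hk₂, sub_zero, hg]
  · apply (pb (i + 1 + 1)).hom_ext
    · simp only [Category.assoc, Preadditive.neg_comp, ← HomologicalComplex.Hom.comm,
        IsPullback.lift_fst_assoc]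
      rw [eq_neg_of_add_eq_zero_left hef]
      simp
    · simp only [Category.assoc, Preadditive.neg_comp, ← HomologicalComplex.Hom.comm,
        IsPullback.lift_snd_assoc, Preadditive.sub_comp, hk₁]
      simp only [z, y, Preadditive.comp_add, Category.assoc]
      abel
  · simp

/-- Lemma: replace the source of a quasi-isomorphism onto a strictly pseudo-coherent complex. -/
lemma exists_strict_of_quasiIso [P.ContainsZero] [P.IsClosedUnderIsomorphisms]
    (hsum : ∀ X Y : C, P X → P Y → P (X ⨯ Y)) (hqs : IsQuasiStableUnderKernels P)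
    (hql : IsQuasiLiftable P) {n : ℤ} (s : E ⟶ F) [QuasiIso s] (hF : IsStrictPC P n F) :
    ∃ (G : CochainComplex C ℤ) (r : G ⟶ E), IsStrictPC P n G ∧ QuasiIso r := by
  have h := good_of_quasiIso s (good_of_strict hsum hqs hF)
  obtain ⟨b, hb⟩ := h.1
  obtain ⟨G, r, hG, hr, -⟩ := exists_resolution hsum hql h (b + 1) (fun i hi => hb i (by omega))
  exact ⟨G, r, hG, hr⟩

/-- The hard direction of the invariance. -/
lemma good_of_quasiIso' [P.ContainsZero] [P.IsClosedUnderIsomorphisms]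
    (hsum : ∀ X Y : C, P X → P Y → P (X ⨯ Y)) (hqs : IsQuasiStableUnderKernels P)
    (hql : IsQuasiLiftable P) {n : ℤ} (s : E ⟶ F) [QuasiIso s] (hE : Good P n E) : Good P n F := by
  refine ⟨?_, fun k G w hk hG hw => ?_⟩
  · obtain ⟨b, hb⟩ := hE.1
    exact ⟨b, fun i hi => (exactAt_iff_of_quasiIsoAt s i).1 (hb i hi)⟩
  obtain ⟨E₁, r₁, p, hr₁, hp, hpe⟩ := exists_epi_cover s
  obtain ⟨G', r, q, hr, hsq⟩ := exists_cover_of_epi p w
  obtain ⟨G'', r', hG'', hr'⟩ := exists_strict_of_quasiIso hsum hqs hql r hG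
  have comm : (r' ≫ q) ≫ p = (r' ≫ r) ≫ w := by rw [Category.assoc, Category.assoc, hsq]
  obtain ⟨e⟩ := homology_iso_of_map (r' ≫ q) comm k
  exact ft_of_iso ((good_of_quasiIso r₁ hE).2 k G'' (r' ≫ q) hk hG''
    (fun i hi => (exactAt_iff_of_map (r' ≫ q) comm i).2 (hw i hi))) e

end Groth.Agent.Lib.PCoh.Resolve
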