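/-
Strictly pseudo-coherent resolutions (all degrees).
-/
import Groth.Agent.Lib.PCoh.Resolve
import Mathlib.CategoryTheory.Functor.OfSequence
import Mathlib.CategoryTheory.Limits.Constructions.EventuallyConstant
import Mathlib.CategoryTheory.Filtered.Basic

set_option autoImplicit false
set_option linter.unusedSectionVars false

open CategoryTheory CategoryTheory.Limits CochainComplex
open _root_.PCoh Groth.Agent.Lib.PCoh.Cone Groth.Agent.Lib.PCoh.Basic Groth.Agent.Lib.PCoh.Resolve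

namespace Groth.Agent.Lib.PCoh.Infinite

universe v u

variable {C : Type u} [Category.{v} C] [Abelian C] {P : ObjectProperty C}
variable {E F : CochainComplex C ℤ}

lemma stepAll [P.IsClosedUnderIsomorphisms] (hsum : ∀ X Y : C, P X → P Y → P (X ⨯ Y))
    (hql : IsQuasiLiftable P) (hF : ∀ n, Good P n F) (k : ℤ) (u : E ⟶ F) (hE : IsStrictPCAll P E)
    (h : ExactGE u (k + 1)) :
    ∃ (E' : CochainComplex C ℤ) (v : E ⟶ E') (u' : E' ⟶ F), v ≫ u' = u ∧ IsStrictPCAll P E' ∧
      (∀ i, Mono (v.f i)) ∧ (∀ i, i ≠ k → IsIso (v.f i)) ∧ ExactGE u' k := by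
  obtain ⟨E₁, v₁, u₁, L, q, hL, ⟨e⟩, hf, hmono, hiso, -, h₁⟩ :=
    step hql k u h ((hF k).2 k E u le_rfl ⟨hE.1, fun i _ => hE.2 i⟩ h)
  obtain ⟨⟨b, hb⟩, hP⟩ := hE
  refine ⟨E₁, v₁, u₁, hf, ⟨⟨max b k, fun i hi => ?_⟩, fun i => ?_⟩, hmono, hiso, h₁⟩
  · have := hiso i (by omega)
    exact (hb i (by omega)).of_iso (asIso (v₁.f i)).symm
  · by_cases him : i = k
    · subst him
      exact P.prop_of_iso e.symm (biprod_mem hsum (hP i) hL)
    · have := hiso i him
      exact P.prop_of_iso (asIso (v₁.f i)) (hP i)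

/-- A stage of the construction. -/
structure Stage (P : ObjectProperty C) (F : CochainComplex C ℤ) (m : ℤ) where
  /-- the complex -/
  cx : CochainComplex C ℤ
  /-- the map -/
  map : cx ⟶ F
  strict : IsStrictPCAll P cx
  exact : ExactGE map m

section

variable [P.IsClosedUnderIsomorphisms] (hsum : ∀ X Y : C, P X → P Y → P (X ⨯ Y))
    (hql : IsQuasiLiftable P) (hF : ∀ n, Good P n F) {m : ℤ}

include hsum hql hF in
lemma exists_next (S : Stage P F m) :
    ∃ (S' : Stage P F (m - 1)) (v : S.cx ⟶ S'.cx), v ≫ S'.map = S.map ∧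
      (∀ i, Mono (v.f i)) ∧ (∀ i, i ≠ m - 1 → IsIso (v.f i)) := by
  obtain ⟨E', v, u', hf, hE', hmono, hiso, h⟩ :=
    stepAll hsum hql hF (m - 1) S.map S.strict (by simpa using S.exact)
  exact ⟨⟨E', u', hE', h⟩, v, hf, hmono, hiso⟩

variable (S₀ : Stage P F m)

/-- The stages. -/
noncomputable def stage : ∀ k : ℕ, Stage P F (m - k)
  | 0 => ⟨S₀.cx, S₀.map, S₀.strict, by simpa using S₀.exact⟩
  | k + 1 =>
    let S' := (exists_next hsum hql hF (stage k)).choose
    ⟨S'.cx, S'.map, S'.strict, fun i hi => S'.exact i (by omega)⟩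

/-- The transition maps. -/
noncomputable def trans (k : ℕ) :
    (stage hsum hql hF S₀ k).cx ⟶ (stage hsum hql hF S₀ (k + 1)).cx :=
  (exists_next hsum hql hF (stage hsum hql hF S₀ k)).choose_spec.choose

lemma trans_spec (k : ℕ) :
    trans hsum hql hF S₀ k ≫ (stage hsum hql hF S₀ (k + 1)).map = (stage hsum hql hF S₀ k).map ∧
      (∀ i, Mono ((trans hsum hql hF S₀ k).f i)) ∧
      (∀ i, i ≠ m - k - 1 → IsIso ((trans hsum hql hF S₀ k).f i)) :=
  (exists_next hsum hql hF (stage hsum hql hF S₀ k)).choose_spec.choose_spec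

/-- The sequence as a functor. -/
noncomputable abbrev seq : ℕ ⥤ CochainComplex C ℤ := Functor.ofSequence (trans hsum hql hF S₀)

/-- The map of a stage, with source an object of the sequence. -/
noncomputable def mp (k : ℕ) : (seq hsum hql hF S₀).obj k ⟶ F := (stage hsum hql hF S₀ k).map

lemma seq_map_succ_props (k : ℕ) :
    (∀ i, Mono (((seq hsum hql hF S₀).map (homOfLE (Nat.le_add_right k 1))).f i)) ∧
    (∀ i : ℤ, m - k ≤ i →
      IsIso (((seq hsum hql hF S₀).map (homOfLE (Nat.le_add_right k 1))).f i)) ∧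
    (seq hsum hql hF S₀).map (homOfLE (Nat.le_add_right k 1)) ≫ mp hsum hql hF S₀ (k + 1) =
      mp hsum hql hF S₀ k := by
  obtain ⟨hf, hm, hi⟩ := trans_spec hsum hql hF S₀ k
  have e : (seq hsum hql hF S₀).map (homOfLE (Nat.le_add_right k 1)) = trans hsum hql hF S₀ k :=
    Functor.ofSequence_map_homOfLE_succ _ k
  rw [e]
  exact ⟨hm, fun i hki => hi i (by omega), hf⟩

lemma seq_map_props (a b : ℕ) (h : a ≤ b) :
    (∀ i, Mono (((seq hsum hql hF S₀).map (homOfLE h)).f i)) ∧
    (∀ i : ℤ, m - a ≤ i → IsIso (((seq hsum hql hF S₀).map (homOfLE h)).f i)) ∧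
    (seq hsum hql hF S₀).map (homOfLE h) ≫ mp hsum hql hF S₀ b = mp hsum hql hF S₀ a := by
  induction b, h using Nat.le_induction with
  | base =>
    rw [show (homOfLE (le_refl a) : a ⟶ a) = 𝟙 a from Subsingleton.elim _ _, CategoryTheory.Functor.map_id]
    exact ⟨fun i => by rw [HomologicalComplex.id_f]; infer_instance,
      fun i _ => by rw [HomologicalComplex.id_f]; infer_instance, Category.id_comp _⟩
  | succ b hb ih =>
    obtain ⟨hm, hi, hf⟩ := seq_map_succ_props hsum hql hF S₀ b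
    obtain ⟨ihm, ihi, ihf⟩ := ih
    have e : (seq hsum hql hF S₀).map (homOfLE (hb.trans (Nat.le_add_right b 1))) =
        (seq hsum hql hF S₀).map (homOfLE hb) ≫
          (seq hsum hql hF S₀).map (homOfLE (Nat.le_add_right b 1)) := by
      rw [← CategoryTheory.Functor.map_comp, homOfLE_comp]
    refine ⟨fun i => ?_, fun i hia => ?_, ?_⟩
    · rw [e, HomologicalComplex.comp_f]
      have := hm i
      have := ihm i
      infer_instance
    · rw [e, HomologicalComplex.comp_f]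
      have := hi i (by omega)
      have := ihi i hia
      infer_instance
    · rw [e, Category.assoc, hf, ihf]

lemma eventually (i : ℤ) (a : ℕ) (h : m - a ≤ i) :
    ((seq hsum hql hF S₀) ⋙ HomologicalComplex.eval C _ i).IsEventuallyConstantFrom a :=
  fun b φ => (seq_map_props hsum hql hF S₀ a b (leOfHom φ)).2.1 i h

instance hasColimitEval (i : ℤ) :
    HasColimit ((seq hsum hql hF S₀) ⋙ HomologicalComplex.eval C _ i) :=
  (eventually hsum hql hF S₀ i (m - i).toNat (by omega)).hasColimit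

/-- The colimit complex. -/
noncomputable def lim : CochainComplex C ℤ := colimit (seq hsum hql hF S₀)

/-- The inclusion of a stage. -/
noncomputable def incl (k : ℕ) : (stage hsum hql hF S₀ k).cx ⟶ lim hsum hql hF S₀ :=
  colimit.ι (seq hsum hql hF S₀) k

lemma isIso_incl_f (k : ℕ) (i : ℤ) (h : m - k ≤ i) : IsIso ((incl hsum hql hF S₀ k).f i) :=
  (eventually hsum hql hF S₀ i k h).isIso_ι_of_isColimit
    (isColimitOfPreserves (HomologicalComplex.eval C _ i) (colimit.isColimit _))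

/-- The map to the target. -/
noncomputable def limMap : lim hsum hql hF S₀ ⟶ F :=
  colimit.desc (seq hsum hql hF S₀)
    ⟨F, { app := fun k => mp hsum hql hF S₀ k
          naturality := fun a b φ => by
            dsimp
            rw [Category.comp_id]
            exact (seq_map_props hsum hql hF S₀ a b (leOfHom φ)).2.2 }⟩

@[reassoc]
lemma incl_limMap (k : ℕ) :
    incl hsum hql hF S₀ k ≫ limMap hsum hql hF S₀ = (stage hsum hql hF S₀ k).map :=
  colimit.ι_desc _ _

lemma quasiIso_limMap : QuasiIso (limMap hsum hql hF S₀) := by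
  refine ⟨fun i => ?_⟩
  obtain ⟨k, hk⟩ : ∃ k : ℕ, m - k ≤ i - 2 := ⟨(m - i + 2).toNat, by omega⟩
  have h₁ : QuasiIsoAt (incl hsum hql hF S₀ k) i := by
    rw [quasiIsoAt_iff' _ (i - 1) i (i + 1) (by simp) (by simp)]
    have h₀ := isIso_incl_f hsum hql hF S₀ k (i - 1) (by omega)
    have h₂ := isIso_incl_f hsum hql hF S₀ k i (by omega)
    have h₃ := isIso_incl_f hsum hql hF S₀ k (i + 1) (by omega)
    let φ := (HomologicalComplex.shortComplexFunctor' C (ComplexShape.up ℤ) (i - 1) i (i + 1)).map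
      (incl hsum hql hF S₀ k)
    have : IsIso φ.τ₁ := h₀
    have : IsIso φ.τ₂ := h₂
    have : IsIso φ.τ₃ := h₃
    exact ShortComplex.quasiIso_of_epi_of_isIso_of_mono φ
  have h₂ : QuasiIsoAt (incl hsum hql hF S₀ k ≫ limMap hsum hql hF S₀) i := by
    rw [incl_limMap, quasiIsoAt_iff_isIso_homologyMap]
    exact ((exactGE_iff _ _).1 (stage hsum hql hF S₀ k).exact).2 i (by omega)
  exact quasiIsoAt_of_comp_left (incl hsum hql hF S₀ k) (limMap hsum hql hF S₀) i

lemma strict_lim : IsStrictPCAll P (lim hsum hql hF S₀) := by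
  obtain ⟨⟨b, hb⟩, -⟩ := (stage hsum hql hF S₀ 0).strict
  refine ⟨⟨max b m, fun i hi => ?_⟩, fun i => ?_⟩
  · have := isIso_incl_f hsum hql hF S₀ 0 i (by simp; omega)
    exact (hb i (by omega)).of_iso (asIso ((incl hsum hql hF S₀ 0).f i)).symm
  · have := isIso_incl_f hsum hql hF S₀ (m - i).toNat i (by omega)
    exact P.prop_of_iso (asIso ((incl hsum hql hF S₀ (m - i).toNat).f i))
      ((stage hsum hql hF S₀ _).strict.2 i)

lemma mono_incl_f (i : ℤ) : Mono ((incl hsum hql hF S₀ 0).f i) := by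
  let N := (m - i).toNat
  have h := (seq_map_props hsum hql hF S₀ 0 N (Nat.zero_le _)).1 i
  have := isIso_incl_f hsum hql hF S₀ N i (by omega)
  have e : (incl hsum hql hF S₀ 0) =
      (seq hsum hql hF S₀).map (homOfLE (Nat.zero_le N)) ≫ incl hsum hql hF S₀ N :=
    (colimit.w (seq hsum hql hF S₀) (homOfLE (Nat.zero_le N))).symm
  rw [e]
  change Mono (((seq hsum hql hF S₀).map (homOfLE (Nat.zero_le N))).f i ≫ (incl hsum hql hF S₀ N).f i)
  exact @mono_comp _ _ _ _ _ _ h _ (@IsIso.mono_of_iso _ _ _ _ _ this)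

include hsum hql hF in
/-- Factorisation through a strictly pseudo-coherent resolution. -/
lemma exists_factorisationAll (m : ℤ) (u : E ⟶ F) (hE : IsStrictPCAll P E) (h : ExactGE u m) :
    ∃ (E' : CochainComplex C ℤ) (v : E ⟶ E') (u' : E' ⟶ F), v ≫ u' = u ∧ IsStrictPCAll P E' ∧
      QuasiIso u' ∧ (∀ i, Mono (v.f i)) ∧ (∀ i, m ≤ i → IsIso (v.f i)) :=
  ⟨_, incl hsum hql hF ⟨E, u, hE, h⟩ 0, limMap hsum hql hF ⟨E, u, hE, h⟩,
    incl_limMap hsum hql hF ⟨E, u, hE, h⟩ 0, strict_lim hsum hql hF _,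
    quasiIso_limMap hsum hql hF _, mono_incl_f hsum hql hF _,
    fun i hi => isIso_incl_f hsum hql hF ⟨E, u, hE, h⟩ 0 i (by simp; omega)⟩

end

open ZeroObject in
lemma exists_resolutionAll [P.ContainsZero] [P.IsClosedUnderIsomorphisms]
    (hsum : ∀ X Y : C, P X → P Y → P (X ⨯ Y)) (hql : IsQuasiLiftable P)
    (hF : ∀ n, Good P n F) (m : ℤ) (hm : ∀ i, m ≤ i → F.ExactAt i) :
    ∃ (G : CochainComplex C ℤ) (s : G ⟶ F), IsStrictPCAll P G ∧ QuasiIso s ∧
      ∀ i, m ≤ i → IsZero (G.X i) := by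
  let Z : CochainComplex C ℤ :=
    CochainComplex.of (fun _ => (0 : C)) (fun _ => 0) (by simp)
  have hZ : ∀ i, IsZero (Z.X i) := fun i => isZero_zero C
  obtain ⟨G, v, s, -, hG, hs, -, hiso⟩ := exists_factorisationAll hsum hql hF m (0 : Z ⟶ F)
    ⟨⟨0, fun i _ => hZ i⟩, fun i => mem_of_isZero (hZ i)⟩ (exactGE_zero F hZ 0 hm)
  exact ⟨G, s, hG, hs, fun i hi => by
    have := hiso i hi
    exact (hZ i).of_iso (asIso (v.f i)).symm⟩

end Groth.Agent.Lib.PCoh.Infinite
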