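/-
Pseudo-coherence in the derived category.
-/
import Groth.Agent.Lib.PCoh.Infinite
import Mathlib.Algebra.Homology.DerivedCategory.Fractions
import Mathlib.Algebra.Homology.DerivedCategory.HomologySequence
import Mathlib.Algebra.Homology.DerivedCategory.ShortExact
import Mathlib.Algebra.Homology.DerivedCategory.TStructure
import Mathlib.CategoryTheory.Triangulated.Pretriangulated

set_option autoImplicit false
set_option linter.unusedSectionVars false

open CategoryTheory CategoryTheory.Limits CochainComplex CategoryTheory.Pretriangulated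
open _root_.PCoh Groth.Agent.Lib.PCoh.Cone Groth.Agent.Lib.PCoh.Basic Groth.Agent.Lib.PCoh.Resolve
open Groth.Agent.Lib.PCoh.Infinite

namespace Groth.Agent.Lib.PCoh.Derived

universe w v u

variable {C : Type u} [Category.{v} C] [Abelian C] [HasDerivedCategory.{w} C]
variable {P : ObjectProperty C}

local notation "Q" => DerivedCategory.Q (C := C)
local notation "H" => DerivedCategory.homologyFunctor C

variable (P) in
/-- `F` is `n`-pseudo-coherent. -/
def PCD (n : ℤ) (F : DerivedCategory C) : Prop :=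
  ∃ E : CochainComplex C ℤ, IsStrictPC P n E ∧ Nonempty (DerivedCategory.Q.obj E ≅ F)

lemma PCD.of_iso {n : ℤ} {F F' : DerivedCategory C} (h : PCD P n F) (e : F ≅ F') : PCD P n F' := by
  obtain ⟨E, hE, ⟨e'⟩⟩ := h
  exact ⟨E, hE, ⟨e' ≪≫ e⟩⟩

lemma pcd_iso_iff {n : ℤ} {F F' : DerivedCategory C} (e : F ≅ F') : PCD P n F ↔ PCD P n F' :=
  ⟨fun h => h.of_iso e, fun h => h.of_iso e.symm⟩

lemma PCD.mono {n m : ℤ} {F : DerivedCategory C} (h : PCD P n F) (hnm : n ≤ m) : PCD P m F := by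
  obtain ⟨E, hE, e⟩ := h
  exact ⟨E, isStrictPC_mono hE hnm, e⟩

/-- Every object comes from a complex. -/
lemma exists_model (F : DerivedCategory C) :
    ∃ K : CochainComplex C ℤ, Nonempty ((Q).obj K ≅ F) :=
  ⟨(Q).objPreimage F, ⟨(Q).objObjPreimageIso F⟩⟩

/-- Homology in the derived category. -/
noncomputable def hIso (K : CochainComplex C ℤ) (i : ℤ) : (H i).obj ((Q).obj K) ≅ K.homology i :=
  (DerivedCategory.homologyFunctorFactors C i).app K

lemma exactAt_iff_isZero (K : CochainComplex C ℤ) (i : ℤ) :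
    K.ExactAt i ↔ IsZero ((H i).obj ((Q).obj K)) := by
  rw [HomologicalComplex.exactAt_iff_isZero_homology, (hIso K i).isZero_iff]

lemma exactAt_of_isZero_of_iso {F : DerivedCategory C} {K : CochainComplex C ℤ}
    (e : (Q).obj K ≅ F) {i : ℤ} (h : IsZero ((H i).obj F)) : K.ExactAt i :=
  (exactAt_iff_isZero K i).2 (h.of_iso ((H i).mapIso e))

lemma epi_homologyMap_iff {K L : CochainComplex C ℤ} (f : K ⟶ L) (i : ℤ) :
    Epi (HomologicalComplex.homologyMap f i) ↔ Epi ((H i).map ((Q).map f)) :=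
  ((MorphismProperty.epimorphisms C).arrow_mk_iso_iff
    (Arrow.isoMk (hIso K i) (hIso L i)
      ((DerivedCategory.homologyFunctorFactors C i).hom.naturality f).symm)).symm

lemma isIso_homologyMap_iff {K L : CochainComplex C ℤ} (f : K ⟶ L) (i : ℤ) :
    IsIso (HomologicalComplex.homologyMap f i) ↔ IsIso ((H i).map ((Q).map f)) :=
  ((MorphismProperty.isomorphisms C).arrow_mk_iso_iff
    (Arrow.isoMk (hIso K i) (hIso L i)
      ((DerivedCategory.homologyFunctorFactors C i).hom.naturality f).symm)).symm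

variable [P.ContainsZero] [P.IsClosedUnderIsomorphisms]
variable (hsum : ∀ X Y : C, P X → P Y → P (X ⨯ Y)) (hqs : IsQuasiStableUnderKernels P)
  (hql : IsQuasiLiftable P)

include hsum hqs hql

/-- A pseudo-coherent complex receives a quasi-isomorphism from a strict one. -/
lemma exists_quasiIso {n : ℤ} {K : CochainComplex C ℤ} (h : PCD P n ((Q).obj K)) :
    ∃ (G : CochainComplex C ℤ) (r : G ⟶ K), IsStrictPC P n G ∧ QuasiIso r := by
  obtain ⟨E, hE, ⟨e⟩⟩ := h
  obtain ⟨X, s, hs, g, hg⟩ := DerivedCategory.right_fac e.hom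
  have hgq : IsIso ((Q).map g) := by
    have : (Q).map g = (Q).map s ≫ e.hom := by rw [hg, IsIso.hom_inv_id_assoc]
    rw [this]
    infer_instance
  rw [DerivedCategory.isIso_Q_map_iff_quasiIso] at hgq hs
  obtain ⟨G, r, hG, hr⟩ := exists_strict_of_quasiIso hsum hqs hql s hE
  exact ⟨G, r ≫ g, hG, inferInstance⟩

lemma good_of_pcd {n : ℤ} {K : CochainComplex C ℤ} (h : PCD P n ((Q).obj K)) : Good P n K := by
  obtain ⟨G, r, hG, hr⟩ := exists_quasiIso hsum hqs hql h
  exact good_of_quasiIso' hsum hqs hql r (good_of_strict hsum hqs hG)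

lemma good_of_isPC {K : CochainComplex C ℤ} (h : IsPC P ((Q).obj K)) (n : ℤ) : Good P n K :=
  good_of_pcd hsum hqs hql (h n)

omit hqs in
lemma pcd_of_good {n : ℤ} {K : CochainComplex C ℤ} (h : Good P n K) : PCD P n ((Q).obj K) := by
  obtain ⟨b, hb⟩ := h.1
  obtain ⟨G, r, hG, hr, -⟩ := exists_resolution hsum hql h (b + 1) (fun i hi => hb i (by omega))
  exact ⟨G, hG, ⟨asIso ((Q).map r)⟩⟩

omit hsum hqs hql in
/-- An object acyclic in degrees `≥ n` is `n`-pseudo-coherent. -/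
lemma pcd_of_acyclic {n : ℤ} {F : DerivedCategory C}
    (h : ∀ i, n ≤ i → IsZero ((H i).obj F)) : PCD P n F := by
  obtain ⟨K, ⟨e⟩⟩ := exists_model F
  have : K.IsLE (n - 1) := by
    rw [CochainComplex.isLE_iff]
    exact fun i hi => exactAt_of_isZero_of_iso e (h i (by omega))
  refine ⟨K.truncLE (n - 1), ⟨⟨n - 1, fun i hi =>
    CochainComplex.isZero_of_isStrictlyLE _ (n - 1) i hi⟩, fun i hi => mem_of_isZero
      (CochainComplex.isZero_of_isStrictlyLE _ (n - 1) i (by omega))⟩,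
    ⟨asIso ((Q).map (K.ιTruncLE (n - 1))) ≪≫ e⟩⟩

omit hsum hqs hql in
lemma pcd_zero {n : ℤ} {F : DerivedCategory C} (h : IsZero F) : PCD P n F :=
  pcd_of_acyclic fun i _ => (H i).map_isZero h

omit hsum hqs hql in
lemma PCD.exists_bound {n : ℤ} {F : DerivedCategory C} (h : PCD P n F) :
    ∃ b : ℤ, ∀ i, b < i → IsZero ((H i).obj F) := by
  obtain ⟨E, ⟨⟨b, hb⟩, -⟩, ⟨e⟩⟩ := h
  exact ⟨b, fun i hi => ((exactAt_iff_isZero E i).1
    (HomologicalComplex.ExactAt.of_isZero (hb i hi))).of_iso ((H i).mapIso e.symm)⟩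

omit hsum hqs hql in
lemma PCD.shift {n : ℤ} {F : DerivedCategory C} (h : PCD P n F) (m : ℤ) :
    PCD P (n - m) ((CategoryTheory.shiftFunctor (DerivedCategory C) m).obj F) := by
  obtain ⟨E, ⟨⟨b, hb⟩, hP⟩, ⟨e⟩⟩ := h
  refine ⟨E⟦m⟧, ⟨⟨b - m, fun i hi => hb (i + m) (by omega)⟩, fun i hi => hP (i + m) (by omega)⟩,
    ⟨((Q).commShiftIso m).app E ≪≫ (CategoryTheory.shiftFunctor (DerivedCategory C) m).mapIso e⟩⟩

omit hsum hqs hql in
lemma PCD.shift' {n : ℤ} {F : DerivedCategory C} (m k : ℤ) (h : PCD P n F) (hk : n - m = k) :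
    PCD P k ((CategoryTheory.shiftFunctor (DerivedCategory C) m).obj F) := hk ▸ h.shift m

omit hqs hql in
lemma isStrictPC_mappingCone {n : ℤ} {G K : CochainComplex C ℤ} (g : G ⟶ K)
    (hG : IsStrictPC P (n + 1) G) (hK : IsStrictPC P n K) : IsStrictPC P n (mappingCone g) := by
  obtain ⟨⟨b, hb⟩, hP⟩ := hK
  obtain ⟨⟨b', hb'⟩, hP'⟩ := hG
  refine ⟨⟨max b b', fun i hi => ?_⟩, fun i hi => ?_⟩
  · rw [mappingCone.isZero_X_iff]
    exact ⟨hb' _ (by omega), hb _ (by omega)⟩
  · exact P.prop_of_iso (HomologicalComplex.homotopyCofiber.XIsoBiprod g i (i + 1) rfl).symm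
      (biprod_mem hsum (hP' _ (by omega)) (hP i (by omega)))

/-- Two out of three: the cone. -/
lemma pcd₃ {n : ℤ} (T : Triangle (DerivedCategory C)) (hT : T ∈ distinguishedTriangles)
    (h₁ : PCD P (n + 1) T.obj₁) (h₂ : PCD P n T.obj₂) : PCD P n T.obj₃ := by
  obtain ⟨G₁, hG₁, ⟨e₁⟩⟩ := h₁
  obtain ⟨G₂, hG₂, ⟨e₂⟩⟩ := h₂
  obtain ⟨X, s, hs, g, hg⟩ := DerivedCategory.right_fac (e₁.hom ≫ T.mor₁ ≫ e₂.inv)
  have : QuasiIso s := (DerivedCategory.isIso_Q_map_iff_quasiIso C s).1 hs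
  obtain ⟨G, r, hG, hr⟩ := exists_strict_of_quasiIso hsum hqs hql s hG₁
  have hT' := DerivedCategory.mappingCone_triangle_distinguished (r ≫ g)
  have hrs : IsIso ((Q).map (r ≫ s)) := by
    rw [DerivedCategory.isIso_Q_map_iff_quasiIso]
    infer_instance
  let e := Pretriangulated.isoTriangleOfIso₁₂ _ T hT' hT
    (@asIso _ _ _ _ ((Q).map (r ≫ s)) hrs ≪≫ e₁) e₂ (by
      change (Q).map (r ≫ g) ≫ e₂.hom = ((Q).map (r ≫ s) ≫ e₁.hom) ≫ T.mor₁
      have h1 : (Q).map g ≫ e₂.hom = (Q).map s ≫ e₁.hom ≫ T.mor₁ := by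
        have h2 := congrArg (fun t => (Q).map s ≫ t ≫ e₂.hom) hg
        simpa using h2.symm
      simp only [Functor.map_comp, Category.assoc, h1])
  exact ⟨mappingCone (r ≫ g), isStrictPC_mappingCone hsum _ hG hG₂, ⟨Triangle.π₃.mapIso e⟩⟩

/-- Two out of three: the middle. -/
lemma pcd₂ {n : ℤ} (T : Triangle (DerivedCategory C)) (hT : T ∈ distinguishedTriangles)
    (h₁ : PCD P n T.obj₁) (h₃ : PCD P n T.obj₃) : PCD P n T.obj₂ :=
  pcd₃ hsum hqs hql T.invRotate (inv_rot_of_distTriang _ hT)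
    (h₃.shift' (-1 : ℤ) (n + 1) (by omega)) h₁

/-- Two out of three: the source. -/
lemma pcd₁ {n : ℤ} (T : Triangle (DerivedCategory C)) (hT : T ∈ distinguishedTriangles)
    (h₂ : PCD P (n + 1) T.obj₂) (h₃ : PCD P n T.obj₃) : PCD P (n + 1) T.obj₁ :=
  pcd₂ hsum hqs hql T.invRotate (inv_rot_of_distTriang _ hT)
    (h₃.shift' (-1 : ℤ) (n + 1) (by omega)) h₂

/-- For `F` acyclic above `n`. -/
lemma pcd_iff_ft {n : ℤ} (F : DerivedCategory C) (hac : ∀ i, n < i → IsZero ((H i).obj F)) :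
    PCD P n F ↔ IsOfFiniteType P ((H n).obj F) := by
  constructor
  · rintro ⟨E, hE, ⟨e⟩⟩
    have h := ft_homology hqs n E hE (fun i hi => exactAt_of_isZero_of_iso e (hac i hi))
    exact ft_of_iso h ((hIso E n).symm ≪≫ (H n).mapIso e)
  · intro h
    obtain ⟨K, ⟨e⟩⟩ := exists_model F
    let Z : CochainComplex C ℤ :=
      (HomologicalComplex.single C (ComplexShape.up ℤ) (n - 1)).obj (kernel (𝟙 (K.X n)))
    have hz0 : IsZero (kernel (𝟙 (K.X n))) := isZero_kernel_of_mono _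
    have hZ : ∀ i, IsZero (Z.X i) := fun i => by
      by_cases hi : i = n - 1
      · subst hi
        exact hz0.of_iso (HomologicalComplex.singleObjXSelf _ _ _)
      · exact HomologicalComplex.isZero_single_obj_X _ _ _ _ hi
    have h0 : ExactGE (0 : Z ⟶ K) (n + 1) :=
      exactGE_zero K hZ 0 (fun i hi => exactAt_of_isZero_of_iso e (hac i (by omega)))
    have hft : IsOfFiniteType P ((mappingCone (0 : Z ⟶ K)).homology n) := by
      have he : Epi (HomologicalComplex.homologyMap (mappingCone.inr (0 : Z ⟶ K)) n) := by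
        rw [HomologicalComplex.epi_homologyMap_iff_up_to_refinements _ (n - 1) n (n + 1) (by simp)
          (by simp)]
        intro A y hy
        obtain ⟨e', f', rfl⟩ := exists_pair (0 : Z ⟶ K) n (n + 1) rfl y
        rw [pair_d _ n (n + 1) (n + 1 + 1) rfl rfl, pair_eq_zero_iff] at hy
        refine ⟨A, 𝟙 A, inferInstance, f', by simpa using hy.2, 0, ?_⟩
        rw [(hZ (n + 1)).eq_of_tgt e' 0]
        simp [Cone.pair]
      exact ft_of_epi (ft_of_iso h ((H n).mapIso e.symm ≪≫ hIso K n))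
        (HomologicalComplex.homologyMap (mappingCone.inr (0 : Z ⟶ K)) n)
    obtain ⟨E₁, v, u, L, q, hL, ⟨eX⟩, -, -, hiso, -, hu⟩ := step hql n (0 : Z ⟶ K) h0 hft
    have hE₁ : IsStrictPC P n E₁ := by
      refine ⟨⟨n, fun i hi => ?_⟩, fun i hi => ?_⟩
      · have := hiso i (by omega)
        exact (hZ i).of_iso (asIso (v.f i)).symm
      · by_cases hin : i = n
        · subst hin
          exact P.prop_of_iso eX.symm (biprod_mem hsum (mem_of_isZero (hZ i)) hL)
        · have := hiso i hin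
          exact mem_of_isZero ((hZ i).of_iso (asIso (v.f i)).symm)
    obtain ⟨G, v', u', -, hq, -, hiso'⟩ := finish n u hu
    exact ⟨G, isStrictPC_of_isIso hE₁ v' hiso' le_rfl, ⟨asIso ((Q).map u') ≪≫ e⟩⟩

end Groth.Agent.Lib.PCoh.Derived
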