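/-
Further closure properties of pseudo-coherence in the derived category.
-/
import Groth.Agent.Lib.PCoh.Derived
import Mathlib.Algebra.Homology.Embedding.TruncLEHomology

set_option autoImplicit false
set_option linter.unusedSectionVars false

open CategoryTheory CategoryTheory.Limits CochainComplex CategoryTheory.Pretriangulated
open _root_.PCoh Groth.Agent.Lib.PCoh.Cone Groth.Agent.Lib.PCoh.Basic Groth.Agent.Lib.PCoh.Resolve
open Groth.Agent.Lib.PCoh.Infinite Groth.Agent.Lib.PCoh.Derived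

namespace Groth.Agent.Lib.PCoh.Derived2

universe w v u

variable {C : Type u} [Category.{v} C] [Abelian C] [HasDerivedCategory.{w} C]
variable {P : ObjectProperty C}

local notation "Q" => DerivedCategory.Q (C := C)
local notation "H" => DerivedCategory.homologyFunctor C
local notation "S" => DerivedCategory.singleFunctor C

/-- The shift of a single object. -/
noncomputable def singleShiftIso (X : C) (b : ℤ) :
    (CategoryTheory.shiftFunctor (DerivedCategory C) (-b)).obj ((S 0).obj X) ≅ (S b).obj X :=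
  ((DerivedCategory.singleFunctors C).shiftIso (-b) b 0 (by omega)).app X

/-- Homology of a single object. -/
noncomputable def hSingle (X : C) (b : ℤ) : (H b).obj ((S b).obj X) ≅ X :=
  hIso ((HomologicalComplex.single C (ComplexShape.up ℤ) b).obj X) b ≪≫
    HomologicalComplex.singleObjHomologySelfIso _ _ _

lemma isZero_H_single (X : C) (b i : ℤ) (h : i ≠ b) : IsZero ((H i).obj ((S b).obj X)) :=
  (exactAt_iff_isZero ((HomologicalComplex.single C (ComplexShape.up ℤ) b).obj X) i).1
    (HomologicalComplex.ExactAt.of_isZero (HomologicalComplex.isZero_single_obj_X _ _ _ _ h))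

section

variable [P.ContainsZero] [P.IsClosedUnderIsomorphisms]

lemma pcd_single_of {k b : ℤ} {X : C} (h : PCD P (k - b) ((S 0).obj X)) : PCD P k ((S b).obj X) :=
  (h.shift' (-b) k (by omega)).of_iso (singleShiftIso X b)

end

/-- Split off the top homology. -/
lemma exists_top_triangle (F : DerivedCategory C) (b : ℤ)
    (hb : ∀ i, b < i → IsZero ((H i).obj F)) :
    ∃ (T : Triangle (DerivedCategory C)), T ∈ distinguishedTriangles ∧ Nonempty (T.obj₂ ≅ F) ∧
      Nonempty (T.obj₃ ≅ (S b).obj ((H b).obj F)) ∧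
      (∀ i, b - 1 < i → IsZero ((H i).obj T.obj₁)) ∧
      (∀ i, i ≤ b - 1 → Nonempty ((H i).obj T.obj₁ ≅ (H i).obj F)) := by
  obtain ⟨K, ⟨e⟩⟩ := exists_model F
  have : K.IsLE b := by
    rw [CochainComplex.isLE_iff]
    exact fun i hi => exactAt_of_isZero_of_iso e (hb i hi)
  let hS := K.shortComplexTruncLE_shortExact (b - 1)
  refine ⟨DerivedCategory.triangleOfSES hS, DerivedCategory.triangleOfSES_distinguished hS, ⟨e⟩,
    ?_, fun i hi => ?_, fun i hi => ?_⟩
  · let φ := K.shortComplexTruncLEX₃ToTruncGE (b - 1) b (by omega)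
    have : QuasiIso φ := by dsimp [φ]; infer_instance
    have : (K.truncGE b).IsLE b := by
      rw [CochainComplex.isLE_iff]
      intro i hi
      have := K.quasiIsoAt_πTruncGE b i hi.le
      exact (exactAt_iff_of_quasiIsoAt (K.πTruncGE b) i).1 (exactAt_of_isZero_of_iso e (hb i hi))
    obtain ⟨Y, ⟨eY⟩⟩ :=
      DerivedCategory.exists_iso_singleFunctor_obj_of_isGE_of_isLE ((Q).obj (K.truncGE b)) b
    have eH : Y ≅ (H b).obj F :=
      (hSingle Y b).symm ≪≫ (H b).mapIso eY.symm ≪≫ hIso _ b ≪≫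
        (isoOfQuasiIsoAt (K.πTruncGE b) b).symm ≪≫ (hIso K b).symm ≪≫ (H b).mapIso e
    have hφ : IsIso ((Q).map φ) := inferInstance
    exact ⟨@asIso _ _ _ _ ((Q).map φ) hφ ≪≫ eY ≪≫ (S b).mapIso eH⟩
  · exact (exactAt_iff_isZero _ i).1
      (HomologicalComplex.ExactAt.of_isZero (CochainComplex.isZero_of_isStrictlyLE (K.truncLE (b - 1)) (b - 1) i hi))
  · have := K.quasiIsoAt_ιTruncLE (b - 1) i hi
    exact ⟨hIso (K.truncLE (b - 1)) i ≪≫ isoOfQuasiIsoAt (K.ιTruncLE (b - 1)) i ≪≫
      (hIso K i).symm ≪≫ (H i).mapIso e⟩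

variable [P.ContainsZero] [P.IsClosedUnderIsomorphisms]
variable (hsum : ∀ X Y : C, P X → P Y → P (X ⨯ Y)) (hqs : IsQuasiStableUnderKernels P)
  (hql : IsQuasiLiftable P)

include hsum hqs hql

lemma pcd_of_homology {n : ℤ} (F : DerivedCategory C) (b : ℤ)
    (hb : ∀ i, b < i → IsZero ((H i).obj F))
    (h : ∀ i, n ≤ i → PCD P (n - i) ((S 0).obj ((H i).obj F))) : PCD P n F := by
  obtain ⟨k, hk⟩ : ∃ k : ℕ, b ≤ n - 1 + k := ⟨(b - n + 1).toNat, by omega⟩
  induction k generalizing b F with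
  | zero => exact pcd_of_acyclic fun i hi => hb i (by simp at hk; omega)
  | succ k ih =>
    obtain ⟨T, hT, ⟨e₂⟩, ⟨e₃⟩, h₁, h₁'⟩ := exists_top_triangle F b hb
    by_cases hbn : b < n
    · exact pcd_of_acyclic fun i hi => hb i (by omega)
    refine (pcd₂ hsum hqs hql T hT ?_ ((pcd_single_of (h b (by omega))).of_iso e₃.symm)).of_iso e₂
    refine ih T.obj₁ (b - 1) h₁ (fun i hi => ?_) (by push_cast at hk; omega)
    by_cases hib : i ≤ b - 1
    · obtain ⟨e⟩ := h₁' i hib
      exact (h i hi).of_iso ((S 0).mapIso e.symm)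
    · exact pcd_zero ((S 0).map_isZero (h₁ i (by omega)))

lemma pcd_biprod_iff {n : ℤ} (F' F'' : DerivedCategory C) [HasBinaryBiproduct F' F''] :
    PCD P n (F' ⊞ F'') ↔ PCD P n F' ∧ PCD P n F'' := by
  refine ⟨fun h => ?_, fun h => pcd₂ hsum hqs hql _
    (binaryBiproductTriangle_distinguished F' F'') h.1 h.2⟩
  obtain ⟨b, hb⟩ := h.exists_bound
  have z₁ : ∀ i, b < i → IsZero ((H i).obj F') := fun i hi => by
    have : Mono ((H i).map (biprod.inl : F' ⟶ F' ⊞ F'')) := inferInstance
    exact IsZero.of_mono ((H i).map (biprod.inl : F' ⟶ F' ⊞ F'')) (hb i hi)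
  have z₂ : ∀ i, b < i → IsZero ((H i).obj F'') := fun i hi => by
    have : Mono ((H i).map (biprod.inr : F'' ⟶ F' ⊞ F'')) := inferInstance
    exact IsZero.of_mono ((H i).map (biprod.inr : F'' ⟶ F' ⊞ F'')) (hb i hi)
  suffices ∀ (k : ℕ) (m : ℤ), n ≤ m → b < m + k → PCD P m F' ∧ PCD P m F'' from
    this (b - n + 1).toNat n le_rfl (by omega)
  intro k
  induction k with
  | zero =>
    intro m _ hk
    exact ⟨pcd_of_acyclic fun i hi => z₁ i (by simp at hk; omega),
      pcd_of_acyclic fun i hi => z₂ i (by simp at hk; omega)⟩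
  | succ k ih =>
    intro m hm hk
    obtain ⟨h₁, h₂⟩ := ih (m + 1) (by omega) (by push_cast at hk; omega)
    have h12 : PCD P m (F' ⊞ F'') := h.mono hm
    have e : (F' ⊞ F'') ≅ (F'' ⊞ F') := biprod.braiding _ _
    exact ⟨pcd₃ hsum hqs hql _ (binaryBiproductTriangle_distinguished F'' F') h₂ (h12.of_iso e),
      pcd₃ hsum hqs hql _ (binaryBiproductTriangle_distinguished F' F'') h₁ h12⟩

omit hqs in
/-- A bounded approximation. -/
lemma exists_bounded_approx {n : ℤ} {K : CochainComplex C ℤ} (hK : Good P n K) (m : ℤ) (hm : n ≤ m) :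
    ∀ (E : CochainComplex C ℤ) (u : E ⟶ K) (M : ℤ), (∀ i, P (E.X i)) → m ≤ M →
      (∀ i, i < n ∨ M < i → IsZero (E.X i)) → ExactGE u m →
      ∃ (E' : CochainComplex C ℤ) (u' : E' ⟶ K), (∀ i, P (E'.X i)) ∧
        (∀ i, i < n ∨ M < i → IsZero (E'.X i)) ∧ ExactGE u' n := by
  induction m, hm using Int.leInduction with
  | base => intro E u M hE _ hz h; exact ⟨E, u, hE, hz, h⟩
  | succ m hm ih =>
    intro E u M hE hM hz h
    have hs : IsStrictPC P (m + 1) E := ⟨⟨M, fun i hi => hz i (Or.inr hi)⟩, fun i _ => hE i⟩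
    obtain ⟨E₁, v₁, u₁, L, q, hL, ⟨eX⟩, -, -, hiso, -, h₁⟩ := step hql m u h (hK.2 m E u hm hs h)
    refine ih E₁ u₁ M (fun i => ?_) (by omega) (fun i hi => ?_) h₁
    · by_cases him : i = m
      · subst him
        exact P.prop_of_iso eX.symm (biprod_mem hsum (hE i) hL)
      · have := hiso i him
        exact P.prop_of_iso (asIso (v₁.f i)) (hE i)
    · have := hiso i (by omega)
      exact (hz i hi).of_iso (asIso (v₁.f i)).symm

lemma pcd_iff_approx {n : ℤ} (F : DerivedCategory C) :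
    PCD P n F ↔ ∃ (E : CochainComplex C ℤ) (a b : ℤ) (α : (Q).obj E ⟶ F),
        (∀ i : ℤ, i < a ∨ b < i → IsZero (E.X i)) ∧ (∀ i : ℤ, P (E.X i)) ∧
        (∀ i : ℤ, n < i → IsIso ((H i).map α)) ∧ Epi ((H n).map α) := by
  constructor
  · intro h
    obtain ⟨K, ⟨e⟩⟩ := exists_model F
    have hK := good_of_pcd hsum hqs hql (h.of_iso e.symm)
    obtain ⟨b, hb⟩ := hK.1
    let Z : CochainComplex C ℤ :=
      (HomologicalComplex.single C (ComplexShape.up ℤ) n).obj (kernel (𝟙 (K.X n)))
    have hz0 : IsZero (kernel (𝟙 (K.X n))) := isZero_kernel_of_mono _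
    have hZ : ∀ i, IsZero (Z.X i) := fun i => by
      by_cases hi : i = n
      · subst hi
        exact hz0.of_iso (HomologicalComplex.singleObjXSelf _ _ _)
      · exact HomologicalComplex.isZero_single_obj_X _ _ _ _ hi
    obtain ⟨E, u, hE, hz, hu⟩ := exists_bounded_approx hsum hql hK (max n (b + 1)) (le_max_left _ _)
      Z 0 (max n (b + 1)) (fun i => mem_of_isZero (hZ i)) le_rfl (fun i _ => hZ i)
      (exactGE_zero K hZ 0 (fun i hi => hb i (by omega)))
    obtain ⟨he, hi⟩ := (exactGE_iff u n).1 hu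
    refine ⟨E, n, max n (b + 1), (Q).map u ≫ e.hom, hz, hE, fun i hni => ?_, ?_⟩
    · have := (isIso_homologyMap_iff u i).1 (hi i hni)
      rw [CategoryTheory.Functor.map_comp]
      infer_instance
    · have := (epi_homologyMap_iff u n).1 he
      rw [CategoryTheory.Functor.map_comp]
      exact epi_comp _ _
  · rintro ⟨E, a, b, α, hz, hE, hiso, hepi⟩
    obtain ⟨Z, g, h, hT⟩ := distinguished_cocone_triangle α
    refine pcd₂ hsum hqs hql (Triangle.mk α g h) hT
      ⟨E, ⟨⟨b, fun i hi => hz i (Or.inr hi)⟩, fun i _ => hE i⟩, ⟨Iso.refl _⟩⟩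
      (pcd_of_acyclic fun i hi => ?_)
    refine (DerivedCategory.HomologySequence.exact₃ (Triangle.mk α g h) hT i (i + 1) rfl).isZero_X₂_iff.2 ⟨?_, ?_⟩
    · have : Epi ((H i).map α) := by
        rcases hi.lt_or_eq with hi | rfl
        · have := hiso i hi; infer_instance
        · exact hepi
      exact (DerivedCategory.HomologySequence.epi_homologyMap_mor₁_iff (Triangle.mk α g h) hT i).1 this
    · have : Mono ((H (i + 1)).map α) := by
        have := hiso (i + 1) (by omega)
        infer_instance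
      exact (DerivedCategory.HomologySequence.mono_homologyMap_mor₁_iff (Triangle.mk α g h) hT i (i + 1) rfl).1 this

end Groth.Agent.Lib.PCoh.Derived2
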