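/-
Termwise criteria for pseudo-coherence.
-/
import Groth.Agent.Lib.PCoh.Derived2

set_option autoImplicit false
set_option linter.unusedSectionVars false

open CategoryTheory CategoryTheory.Limits CochainComplex CategoryTheory.Pretriangulated
open _root_.PCoh Groth.Agent.Lib.PCoh.Cone Groth.Agent.Lib.PCoh.Basic Groth.Agent.Lib.PCoh.Resolve
open Groth.Agent.Lib.PCoh.Infinite Groth.Agent.Lib.PCoh.Derived Groth.Agent.Lib.PCoh.Derived2

namespace Groth.Agent.Lib.PCoh.Derived3

universe w v u

variable {C : Type u} [Category.{v} C] [Abelian C] [HasDerivedCategory.{w} C]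
variable {P : ObjectProperty C}

local notation "Q" => DerivedCategory.Q (C := C)
local notation "H" => DerivedCategory.homologyFunctor C
local notation "S" => DerivedCategory.singleFunctor C

/-- The stupid filtration step: split off the top term. -/
lemma exists_stupid_triangle (K : CochainComplex C ℤ) (b : ℤ) (hb : ∀ i, b < i → IsZero (K.X i)) :
    ∃ (K' : CochainComplex C ℤ) (T : Triangle (DerivedCategory C)), T ∈ distinguishedTriangles ∧
      Nonempty (T.obj₁ ≅ (S b).obj (K.X b)) ∧ Nonempty (T.obj₂ ≅ (Q).obj K) ∧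
      Nonempty (T.obj₃ ≅ (Q).obj K') ∧ (∀ i, b ≤ i → IsZero (K'.X i)) ∧
      (∀ i, i ≠ b → Nonempty (K.X i ≅ K'.X i)) := by
  let ι : (HomologicalComplex.single C (ComplexShape.up ℤ) b).obj (K.X b) ⟶ K :=
    HomologicalComplex.mkHomFromSingle (𝟙 _) (fun i hi => by
      obtain rfl : b + 1 = i := hi
      exact (hb _ (by omega)).eq_of_tgt _ _)
  have hιb : IsIso (ι.f b) := by
    simp only [ι, HomologicalComplex.mkHomFromSingle_f, Category.comp_id]
    infer_instance
  have hmono : Mono ι := by
    have : ∀ i, Mono (ι.f i) := fun i => by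
      by_cases hi : i = b
      · subst hi; infer_instance
      · exact ⟨fun _ _ _ =>
          (HomologicalComplex.isZero_single_obj_X (ComplexShape.up ℤ) b (K.X b) i hi).eq_of_tgt _ _⟩
    exact HomologicalComplex.mono_of_mono_f ι this
  let Sh : ShortComplex (CochainComplex C ℤ) := ShortComplex.mk ι (cokernel.π ι) (by simp)
  have hSh : Sh.ShortExact :=
    { exact := Sh.exact_of_g_is_cokernel (cokernelIsCokernel ι) }
  have hev : ∀ i, (Sh.map (HomologicalComplex.eval C (ComplexShape.up ℤ) i)).ShortExact :=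
    fun i => hSh.map_of_exact _
  have hisoz : ∀ i, i ≠ b → IsIso ((cokernel.π ι).f i) := fun i hi => by
    exact ((hev i).isIso_g_iff).2 (HomologicalComplex.isZero_single_obj_X (ComplexShape.up ℤ) b (K.X b) i hi)
  refine ⟨cokernel ι, DerivedCategory.triangleOfSES hSh, DerivedCategory.triangleOfSES_distinguished hSh,
    ⟨Iso.refl _⟩, ⟨Iso.refl _⟩, ⟨Iso.refl _⟩, fun i hi => ?_, fun i hi => ?_⟩
  · rcases hi.lt_or_eq with hi | rfl
    · have := hisoz i (by omega)
      exact (hb i hi).of_iso (asIso ((cokernel.π ι).f i)).symm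
    · have h := hev b
      have : IsIso (Sh.map (HomologicalComplex.eval C (ComplexShape.up ℤ) b)).f := hιb
      exact h.isIso_f_iff.1 this
  · have := hisoz i hi
    exact ⟨asIso ((cokernel.π ι).f i)⟩

/-- Vanishing after a shift. -/
noncomputable def hShiftIso (F : DerivedCategory C) (m i j : ℤ) (h : m + i = j) :
    (H i).obj ((CategoryTheory.shiftFunctor (DerivedCategory C) m).obj F) ≅ (H j).obj F :=
  ((H 0).shiftIso m i j h).app F

variable [P.ContainsZero] [P.IsClosedUnderIsomorphisms]
variable (hsum : ∀ X Y : C, P X → P Y → P (X ⨯ Y)) (hqs : IsQuasiStableUnderKernels P)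
  (hql : IsQuasiLiftable P)

include hsum hqs hql

lemma pcd_of_termwise {n : ℤ} (K : CochainComplex C ℤ) (b : ℤ) (hb : ∀ i, b < i → IsZero (K.X i))
    (h : ∀ i, n ≤ i → PCD P (n - i) ((S 0).obj (K.X i))) : PCD P n ((Q).obj K) := by
  obtain ⟨k, hk⟩ : ∃ k : ℕ, b ≤ n - 1 + k := ⟨(b - n + 1).toNat, by omega⟩
  induction k generalizing b K with
  | zero =>
    exact pcd_of_acyclic fun i hi =>
      (exactAt_iff_isZero K i).1 (HomologicalComplex.ExactAt.of_isZero (hb i (by simp at hk; omega)))
  | succ k ih =>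
    by_cases hbn : b < n
    · exact pcd_of_acyclic fun i hi =>
        (exactAt_iff_isZero K i).1 (HomologicalComplex.ExactAt.of_isZero (hb i (by omega)))
    obtain ⟨K', T, hT, ⟨e₁⟩, ⟨e₂⟩, ⟨e₃⟩, hz, he⟩ := exists_stupid_triangle K b hb
    refine (pcd₂ hsum hqs hql T hT ((pcd_single_of (h b (by omega))).of_iso e₁.symm) ?_).of_iso e₂
    refine (ih K' (b - 1) (fun i hi => hz i (by omega)) (fun i hi => ?_)
      (by push_cast at hk; omega)).of_iso e₃.symm
    by_cases hib : b ≤ i
    · exact pcd_zero ((S 0).map_isZero (hz i hib))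
    · obtain ⟨e⟩ := he i (by omega)
      exact (h i hi).of_iso ((S 0).mapIso e)

lemma pcd_single_of_ft {X : C} (h : IsOfFiniteType P X) : PCD P 0 ((S 0).obj X) :=
  (pcd_iff_ft hsum hqs hql _ (fun i hi => isZero_H_single X 0 i (by omega))).2
    (ft_of_iso h (hSingle X 0).symm)

lemma ft_of_pcd_single {X : C} (h : PCD P 0 ((S 0).obj X)) : IsOfFiniteType P X :=
  ft_of_iso ((pcd_iff_ft hsum hqs hql _ (fun i hi => isZero_H_single X 0 i (by omega))).1 h)
    (hSingle X 0)

end Groth.Agent.Lib.PCoh.Derived3
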