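/-
Bounded complexes with terms in a class of relatively projective objects.
-/
import Groth.Agent.Lib.PCoh.Derived3
import Mathlib.Algebra.Homology.DerivedCategory.KProjective
import Mathlib.CategoryTheory.Preadditive.Projective.Basic

set_option autoImplicit false
set_option linter.unusedSectionVars false

open CategoryTheory CategoryTheory.Limits CochainComplex CategoryTheory.Pretriangulated
open _root_.PCoh Groth.Agent.Lib.PCoh.Cone Groth.Agent.Lib.PCoh.Basic Groth.Agent.Lib.PCoh.Derived

namespace Groth.Agent.Lib.PCoh.Perfect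

universe w v u

variable {C : Type u} [Category.{v} C] [Abelian C]
variable {P : ObjectProperty C} [P.ContainsZero] [P.IsClosedUnderIsomorphisms]
variable (hlift : ∀ (E F : C) (u : E ⟶ F), Epi u → P F → IsSplitEpi u)
variable (hst : ∀ (E F : C) (u : E ⟶ F), Epi u → P E → P F → P (kernel u))

include hlift in
lemma projective_of_mem {X : C} (h : P X) : Projective X where
  factors {E Y} f e he := by
    have := hlift _ X (pullback.snd e f) inferInstance h
    exact ⟨section_ (pullback.snd e f) ≫ pullback.fst e f, by simp [pullback.condition]⟩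

include hlift in
lemma quasiLiftable : IsQuasiLiftable P := fun E F u hu hF => by
  have := hlift E F u hu hF
  exact ⟨F, section_ u, hF, by rw [IsSplitEpi.id]; infer_instance⟩

include hst in
/-- Cycles of a bounded above complex with terms in `P`, exact above `b`, are in `P`. -/
lemma cycles_mem (K : CochainComplex C ℤ) (c b : ℤ) (hP : ∀ i, b ≤ i → P (K.X i))
    (hz : ∀ i, c < i → IsZero (K.X i)) (hex : ∀ i, b < i → K.ExactAt i) :
    P (K.cycles b) := by
  obtain ⟨k, hk⟩ : ∃ k : ℕ, c < b + k := ⟨(c - b).toNat + 1, by omega⟩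
  induction k generalizing b with
  | zero => exact mem_of_isZero (IsZero.of_mono (K.iCycles b) (hz b (by simpa using hk)))
  | succ k ih =>
    have h₃ := ih (b + 1) (fun i hi => hP i (by omega)) (fun i hi => hex i (by omega))
      (by push_cast at hk; omega)
    have hepi : Epi (K.toCycles b (b + 1)) := by
      rw [epi_iff_surjective_up_to_refinements]
      intro A x
      obtain ⟨A', π, hπ, y, hy⟩ := ((K.exactAt_iff_exact_up_to_refinements b (b + 1) (b + 1 + 1)
        (by simp) (by simp)).1 (hex (b + 1) (by omega))) (x ≫ K.iCycles (b + 1)) (by simp)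
      exact ⟨A', π, hπ, y, by simp [← cancel_mono (K.iCycles (b + 1)), hy]⟩
    refine P.prop_of_iso ?_ (hst _ _ (K.toCycles b (b + 1)) hepi (hP b le_rfl) h₃)
    exact (kernelCompMono (K.toCycles b (b + 1)) (K.iCycles (b + 1))).symm ≪≫
      kernelIsoOfEq (K.toCycles_i b (b + 1)) ≪≫
      (IsLimit.conePointUniqueUpToIso (kernelIsKernel _) (K.cyclesIsKernel b (b + 1) (by simp)))

include hst in
/-- Cycles of a bounded exact complex indexed by `ℕ`. -/
lemma cycles_mem_nat (K : CochainComplex C ℕ) (hK : ∀ i, K.ExactAt i) (N : ℕ)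
    (hN : ∀ i, N < i → IsZero (K.X i)) (m : ℕ) (hP : ∀ i, m ≤ i → P (K.X i)) :
    P (K.cycles m) := by
  obtain ⟨k, hk⟩ : ∃ k, N < m + k := ⟨N + 1, by omega⟩
  induction k generalizing m with
  | zero => exact mem_of_isZero (IsZero.of_mono (K.iCycles m) (hN m (by omega)))
  | succ k ih =>
    have h₃ := ih (m + 1) (fun i hi => hP i (by omega)) (by omega)
    have hepi : Epi (K.toCycles m (m + 1)) := by
      rw [epi_iff_surjective_up_to_refinements]
      intro A x
      obtain ⟨A', π, hπ, y, hy⟩ := ((K.exactAt_iff_exact_up_to_refinements m (m + 1) (m + 2)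
        (by simp) (by simp)).1 (hK (m + 1))) (x ≫ K.iCycles (m + 1)) (by simp)
      exact ⟨A', π, hπ, y, by simp [← cancel_mono (K.iCycles (m + 1)), hy]⟩
    refine P.prop_of_iso ?_ (hst _ _ (K.toCycles m (m + 1)) hepi (hP m le_rfl) h₃)
    exact (kernelCompMono (K.toCycles m (m + 1)) (K.iCycles (m + 1))).symm ≪≫
      kernelIsoOfEq (K.toCycles_i m (m + 1)) ≪≫
      (IsLimit.conePointUniqueUpToIso (kernelIsKernel _) (K.cyclesIsKernel m (m + 1) (by simp)))

include hst in
lemma quasiStable : IsQuasiStableUnderKernels P := by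
  intro K hK ⟨N, hN⟩ hP
  have h := cycles_mem_nat hst K hK N hN 1 hP
  have : Mono (K.d 0 1) := by
    refine Preadditive.mono_of_cancel_zero _ (fun {A} x hx => ?_)
    obtain ⟨A', π, hπ, y, hy⟩ := ((K.exactAt_iff_exact_up_to_refinements 0 0 1
      (by simp) (by simp)).1 (hK 0)) x hx
    exact (cancel_epi π).1 (by simpa using hy)
  have : Mono (K.toCycles 0 1) := mono_of_mono_fac (K.toCycles_i 0 1)
  have : Epi (K.toCycles 0 1) := by
    rw [epi_iff_surjective_up_to_refinements]
    intro A x
    obtain ⟨A', π, hπ, y, hy⟩ := ((K.exactAt_iff_exact_up_to_refinements 0 1 2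
      (by simp) (by simp)).1 (hK 1)) (x ≫ K.iCycles 1) (by simp)
    exact ⟨A', π, hπ, y, by simp [← cancel_mono (K.iCycles 1), hy]⟩
  have := isIso_of_mono_of_epi (K.toCycles 0 1)
  exact ft_of_iso (ft_of_mem h) (asIso (K.toCycles 0 1)).symm

variable [HasDerivedCategory.{w} C]

local notation "Q" => DerivedCategory.Q (C := C)

include hlift in
/-- Morphisms out of a bounded above complex with terms in `P` come from chain maps. -/
lemma exists_map (E K : CochainComplex C ℤ) (b : ℤ) (hE : ∀ i, P (E.X i))
    (hz : ∀ i, b < i → IsZero (E.X i)) (α : (Q).obj E ⟶ (Q).obj K) :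
    ∃ f : E ⟶ K, (Q).map f = α := by
  have : E.IsStrictlyLE b := (CochainComplex.isStrictlyLE_iff E b).2 hz
  have : ∀ i, Projective (E.X i) := fun i => projective_of_mem hlift (hE i)
  have : E.IsKProjective := CochainComplex.isKProjective_of_projective E b
  obtain ⟨g, hg⟩ := (CochainComplex.IsKProjective.Qh_map_bijective E _).surjective
    ((DerivedCategory.quotientCompQhIso C).hom.app E ≫ α ≫
      (DerivedCategory.quotientCompQhIso C).inv.app K)
  obtain ⟨f, rfl⟩ := (HomotopyCategory.quotient _ _).map_surjective g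
  refine ⟨f, ?_⟩
  rw [← cancel_mono ((DerivedCategory.quotientCompQhIso C).inv.app K),
    DerivedCategory.quotientCompQhIso_inv_naturality, hg]
  simp

include hlift hst in
/-- The first term of a complex of perfect amplitude in `[a, b]` with the other terms in `P`. -/
lemma mem_first_term (hsum : ∀ X Y : C, P X → P Y → P (X ⨯ Y)) (a b : ℤ)
    (E F : CochainComplex C ℤ) (hE : ∀ i, P (E.X i))
    (hEz : ∀ i, i < a ∨ b < i → IsZero (E.X i)) (hFz : ∀ i, i < a ∨ b < i → IsZero (F.X i))
    (hP : ∀ i, a < i → P (F.X i)) (e : (Q).obj E ≅ (Q).obj F) : P (F.X a) := by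
  obtain ⟨f, hf⟩ := exists_map hlift E F b hE (fun i hi => hEz i (Or.inr hi)) e.hom
  have : QuasiIso f := (DerivedCategory.isIso_Q_map_iff_quasiIso C f).1 (by rw [hf]; infer_instance)
  let K := mappingCone f
  have hK : ∀ i, K.ExactAt i := (Cone.quasiIso_iff f).1 inferInstance
  have hX : ∀ i, P (E.X (i + 1) ⊞ F.X i) → P (K.X i) := fun i h =>
    P.prop_of_iso (HomologicalComplex.homotopyCofiber.XIsoBiprod f i (i + 1) rfl).symm h
  have hKz : ∀ i, b < i → IsZero (K.X i) := fun i hi => by
    rw [mappingCone.isZero_X_iff]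
    exact ⟨hEz _ (by omega), hFz _ (by omega)⟩
  have hZ : P (K.cycles (a + 1)) :=
    cycles_mem hst K b (a + 1) (fun i hi => hX i (biprod_mem hsum (hE _) (hP i (by omega))))
      hKz (fun i _ => hK i)
  have hepi : Epi (K.toCycles a (a + 1)) := by
    rw [epi_iff_surjective_up_to_refinements]
    intro A x
    obtain ⟨A', π, hπ, y, hy⟩ := ((K.exactAt_iff_exact_up_to_refinements a (a + 1) (a + 1 + 1)
      (by simp) (by simp)).1 (hK (a + 1))) (x ≫ K.iCycles (a + 1)) (by simp)
    exact ⟨A', π, hπ, y, by simp [← cancel_mono (K.iCycles (a + 1)), hy]⟩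
  let T := ShortComplex.mk (K.d (a - 1) a) (K.toCycles a (a + 1)) (by
    simp [← cancel_mono (K.iCycles (a + 1))])
  have hmono : Mono T.f := by
    refine Preadditive.mono_of_cancel_zero _ (fun {A} x hx => ?_)
    obtain ⟨A', π, hπ, y, hy⟩ := ((K.exactAt_iff_exact_up_to_refinements (a - 2) (a - 1) a
      (by simp; omega) (by simp)).1 (hK (a - 1))) x hx
    have : IsZero (K.X (a - 2)) := by
      rw [mappingCone.isZero_X_iff]
      exact ⟨hEz _ (by omega), hFz _ (by omega)⟩
    exact (cancel_epi π).1 (by rw [hy, this.eq_of_tgt y 0]; simp)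
  have hT : T.Exact := by
    rw [ShortComplex.exact_iff_exact_up_to_refinements]
    intro A x hx
    refine ((K.exactAt_iff_exact_up_to_refinements (a - 1) a (a + 1)
      (by simp) (by simp)).1 (hK a)) x ?_
    have := congrArg (· ≫ K.iCycles (a + 1)) hx
    simpa [T] using this
  have : IsSplitEpi T.g := hlift _ _ _ hepi hZ
  let σ := ShortComplex.Splitting.ofExactOfSection T hT (section_ T.g) (IsSplitEpi.id T.g) hmono
  have hKa1 : P (K.X (a - 1)) := hX _ (biprod_mem hsum (hE _) (mem_of_isZero (hFz _ (by omega))))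
  have hKa : P (K.X a) := P.prop_of_iso σ.isoBinaryBiproduct.symm (biprod_mem hsum hKa1 hZ)
  have hsum' : P (E.X (a + 1) ⊞ F.X a) :=
    P.prop_of_iso (HomologicalComplex.homotopyCofiber.XIsoBiprod f a (a + 1) rfl) hKa
  have h := hst _ _ (biprod.fst : E.X (a + 1) ⊞ F.X a ⟶ _) inferInstance hsum' (hE _)
  exact P.prop_of_iso
    { hom := kernel.ι (biprod.fst : E.X (a + 1) ⊞ F.X a ⟶ _) ≫ biprod.snd
      inv := kernel.lift _ biprod.inr biprod.inr_fst
      hom_inv_id := by
        rw [← cancel_mono (kernel.ι _)]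
        apply biprod.hom_ext <;> simp
      inv_hom_id := by simp } h

end Groth.Agent.Lib.PCoh.Perfect
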