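/-
Perfect amplitude and direct sums.
-/
import Groth.Agent.Lib.PCoh.Perfect

set_option autoImplicit false
set_option linter.unusedSectionVars false

open CategoryTheory CategoryTheory.Limits CochainComplex CategoryTheory.Pretriangulated
open _root_.PCoh Groth.Agent.Lib.PCoh.Cone Groth.Agent.Lib.PCoh.Basic Groth.Agent.Lib.PCoh.Derived
open Groth.Agent.Lib.PCoh.Resolve Groth.Agent.Lib.PCoh.Infinite Groth.Agent.Lib.PCoh.Derived2

namespace Groth.Agent.Lib.PCoh.Amplitude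

universe w v u

variable {C : Type u} [Category.{v} C] [Abelian C] [HasDerivedCategory.{w} C]
variable {P : ObjectProperty C}

local notation "Q" => DerivedCategory.Q (C := C)
local notation "H" => DerivedCategory.homologyFunctor C

variable (P) in
/-- `F` is isomorphic to a complex in `[a, b]` with terms in `P`. -/
def Amp (a b : ℤ) (F : DerivedCategory C) : Prop :=
  ∃ E : CochainComplex C ℤ, (∀ i : ℤ, P (E.X i)) ∧ (∀ i : ℤ, i < a ∨ b < i → IsZero (E.X i)) ∧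
    Nonempty (DerivedCategory.Q.obj E ≅ F)

/-- `Q` and biproducts. -/
noncomputable def qBiprod {F₁ F₂ : DerivedCategory C} [HasBinaryBiproduct F₁ F₂]
    {E₁ E₂ : CochainComplex C ℤ} (e₁ : (Q).obj E₁ ≅ F₁) (e₂ : (Q).obj E₂ ≅ F₂) :
    (Q).obj (E₁ ⊞ E₂) ≅ F₁ ⊞ F₂ :=
  haveI := preservesBinaryBiproducts_of_preservesBiproducts (Q)
  (Q).mapBiprod E₁ E₂ ≪≫ biprod.mapIso e₁ e₂

/-- Biproducts degreewise. -/
noncomputable def evalBiprod (E₁ E₂ : CochainComplex C ℤ) (i : ℤ) :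
    (E₁ ⊞ E₂).X i ≅ E₁.X i ⊞ E₂.X i :=
  (HomologicalComplex.eval C (ComplexShape.up ℤ) i).mapBiprod E₁ E₂

variable [P.ContainsZero] [P.IsClosedUnderIsomorphisms]
variable (hsum : ∀ X Y : C, P X → P Y → P (X ⨯ Y))

include hsum

lemma amp_biprod {a b : ℤ} (F' F'' : DerivedCategory C) [HasBinaryBiproduct F' F'']
    (h' : Amp P a b F') (h'' : Amp P a b F'') : Amp P a b (F' ⊞ F'') := by
  obtain ⟨E₁, hP₁, hz₁, ⟨e₁⟩⟩ := h'
  obtain ⟨E₂, hP₂, hz₂, ⟨e₂⟩⟩ := h''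
  refine ⟨E₁ ⊞ E₂, fun i => P.prop_of_iso (evalBiprod E₁ E₂ i).symm (biprod_mem hsum (hP₁ i) (hP₂ i)),
    fun i hi => IsZero.of_iso ?_ (evalBiprod E₁ E₂ i), ⟨qBiprod e₁ e₂⟩⟩
  rw [biprod_isZero_iff]
  exact ⟨hz₁ i hi, hz₂ i hi⟩

variable (hlift : ∀ (E F : C) (u : E ⟶ F), Epi u → P F → IsSplitEpi u)
variable (hst : ∀ (E F : C) (u : E ⟶ F), Epi u → P E → P F → P (kernel u))

include hlift hst in
lemma amp_summands {a b : ℤ} (hab : a ≤ b) (F' F'' : DerivedCategory C) [HasBinaryBiproduct F' F'']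
    (hsummand : ∀ (E' E'' : C) [HasBinaryBiproduct E' E''], P (E' ⊞ E'') → P E' ∧ P E'')
    (h : Amp P a b (F' ⊞ F'')) : Amp P a b F' ∧ Amp P a b F'' := by
  have hqs := Perfect.quasiStable hst
  have hql := Perfect.quasiLiftable (P := P) hlift
  obtain ⟨E, hE, hz, ⟨e⟩⟩ := h
  have hZ : ∀ i, i < a ∨ b < i → IsZero ((H i).obj (F' ⊞ F'')) := fun i hi =>
    ((exactAt_iff_isZero E i).1 (HomologicalComplex.ExactAt.of_isZero (hz i hi))).of_iso
      ((H i).mapIso e.symm)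
  have z₁ : ∀ i, i < a ∨ b < i → IsZero ((H i).obj F') := fun i hi => by
    have : Mono ((H i).map (biprod.inl : F' ⟶ F' ⊞ F'')) := inferInstance
    exact IsZero.of_mono ((H i).map (biprod.inl : F' ⟶ F' ⊞ F'')) (hZ i hi)
  have z₂ : ∀ i, i < a ∨ b < i → IsZero ((H i).obj F'') := fun i hi => by
    have : Mono ((H i).map (biprod.inr : F'' ⟶ F' ⊞ F'')) := inferInstance
    exact IsZero.of_mono ((H i).map (biprod.inr : F'' ⟶ F' ⊞ F'')) (hZ i hi)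
  have hpc : ∀ n, PCD P n F' ∧ PCD P n F'' := fun n =>
    (pcd_biprod_iff hsum hqs hql F' F'').1 ⟨E, ⟨⟨b, fun i hi => hz i (Or.inr hi)⟩, fun i _ => hE i⟩, ⟨e⟩⟩
  have key : ∀ F : DerivedCategory C, (∀ n, PCD P n F) →
      (∀ i, i < a ∨ b < i → IsZero ((H i).obj F)) →
      ∃ T : CochainComplex C ℤ, Nonempty ((Q).obj T ≅ F) ∧
        (∀ i, i < a ∨ b < i → IsZero (T.X i)) ∧ (∀ i, a < i → P (T.X i)) := by
    intro F hF hFz
    obtain ⟨K, ⟨eK⟩⟩ := exists_model F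
    obtain ⟨G, s, hG, hs, hGz⟩ := exists_resolutionAll hsum hql
      (fun n => good_of_pcd hsum hqs hql ((hF n).of_iso eK.symm)) (b + 1)
      (fun i hi => exactAt_of_isZero_of_iso eK (hFz i (Or.inr (by omega))))
    let eG := asIso ((Q).map s) ≪≫ eK
    have : G.IsGE a := by
      rw [CochainComplex.isGE_iff]
      exact fun i hi => exactAt_of_isZero_of_iso eG (hFz i (Or.inl hi))
    refine ⟨G.truncGE a, ⟨(asIso ((Q).map (G.πTruncGE a))).symm ≪≫ eG⟩, fun i hi => ?_, fun i hi => ?_⟩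
    · rcases hi with hi | hi
      · exact CochainComplex.isZero_of_isStrictlyGE _ a i hi
      · exact (hGz i (by omega)).of_iso (G.truncGEXIso a i (by omega))
    · exact P.prop_of_iso (G.truncGEXIso a i hi).symm (hG.2 i)
  obtain ⟨T₁, ⟨e₁⟩, hz₁, hP₁⟩ := key F' (fun n => (hpc n).1) z₁
  obtain ⟨T₂, ⟨e₂⟩, hz₂, hP₂⟩ := key F'' (fun n => (hpc n).2) z₂
  have hPa : P ((T₁ ⊞ T₂).X a) := by
    refine Perfect.mem_first_term hlift hst hsum a b E (T₁ ⊞ T₂) hE hz (fun i hi => ?_)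
      (fun i hi => P.prop_of_iso (evalBiprod T₁ T₂ i).symm (biprod_mem hsum (hP₁ i hi) (hP₂ i hi)))
      (e ≪≫ (qBiprod e₁ e₂).symm)
    refine IsZero.of_iso ?_ (evalBiprod T₁ T₂ i)
    rw [biprod_isZero_iff]
    exact ⟨hz₁ i hi, hz₂ i hi⟩
  obtain ⟨h₁, h₂⟩ := hsummand _ _ (P.prop_of_iso (evalBiprod T₁ T₂ a) hPa)
  have tot : ∀ T : CochainComplex C ℤ, (∀ i, i < a ∨ b < i → IsZero (T.X i)) →
      (∀ i, a < i → P (T.X i)) → P (T.X a) → ∀ i, P (T.X i) := fun T hz hP ha i => by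
    rcases lt_trichotomy i a with h | rfl | h
    · exact mem_of_isZero (hz i (Or.inl h))
    · exact ha
    · exact hP i h
  exact ⟨⟨T₁, tot T₁ hz₁ hP₁ h₁, hz₁, ⟨e₁⟩⟩, ⟨T₂, tot T₂ hz₂ hP₂ h₂, hz₂, ⟨e₂⟩⟩⟩

end Groth.Agent.Lib.PCoh.Amplitude
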