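/-
Coherent objects and exact sequences.
-/
import Groth.Agent.Lib.PCoh.Derived3
import Mathlib.Algebra.Homology.DerivedCategory.SingleTriangle

set_option autoImplicit false
set_option linter.unusedSectionVars false

open CategoryTheory CategoryTheory.Limits CochainComplex CategoryTheory.Pretriangulated
open _root_.PCoh Groth.Agent.Lib.PCoh.Cone Groth.Agent.Lib.PCoh.Basic Groth.Agent.Lib.PCoh.Resolve
open Groth.Agent.Lib.PCoh.Infinite Groth.Agent.Lib.PCoh.Derived Groth.Agent.Lib.PCoh.Derived2
open Groth.Agent.Lib.PCoh.Derived3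

namespace Groth.Agent.Lib.PCoh.Coherent

universe w v u

variable {C : Type u} [Category.{v} C] [Abelian C] [HasDerivedCategory.{w} C]
variable {P : ObjectProperty C} [P.ContainsZero] [P.IsClosedUnderIsomorphisms]

local notation "H" => DerivedCategory.homologyFunctor C
local notation "S" => DerivedCategory.singleFunctor C

variable (hsum : ∀ X Y : C, P X → P Y → P (X ⨯ Y)) (hqs : IsQuasiStableUnderKernels P)
  (hql : IsQuasiLiftable P)

omit hsum in
lemma isPC_single_of_mem {X : C} (h : P X) : IsPC P ((S 0).obj X) := fun n =>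
  ⟨(HomologicalComplex.single C (ComplexShape.up ℤ) 0).obj X,
    ⟨⟨0, fun i hi => HomologicalComplex.isZero_single_obj_X _ _ _ _ (by omega)⟩, fun i _ => by
      by_cases hi : i = 0
      · subst hi
        exact P.prop_of_iso (HomologicalComplex.singleObjXSelf _ _ _).symm h
      · exact mem_of_isZero (HomologicalComplex.isZero_single_obj_X _ _ _ _ hi)⟩, ⟨Iso.refl _⟩⟩

include hsum hqs hql

lemma pcd_kernel {n : ℤ} {T : ShortComplex C} (hT : T.ShortExact)
    (h₂ : PCD P (n + 1) ((S 0).obj T.X₂)) (h₃ : PCD P n ((S 0).obj T.X₃)) :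
    PCD P (n + 1) ((S 0).obj T.X₁) :=
  pcd₁ hsum hqs hql hT.singleTriangle hT.singleTriangle_distinguished h₂ h₃

/-- The cycles of a bounded exact complex with pseudo-coherent terms are pseudo-coherent. -/
lemma isPC_cycles (K : CochainComplex C ℕ) (hK : ∀ i, K.ExactAt i) (N : ℕ)
    (hN : ∀ i, N < i → IsZero (K.X i)) (m : ℕ) (hP : ∀ i, m ≤ i → IsPC P ((S 0).obj (K.X i))) :
    IsPC P ((S 0).obj (K.cycles m)) := by
  obtain ⟨k, hk⟩ : ∃ k, N < m + k := ⟨N + 1, by omega⟩
  induction k generalizing m with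
  | zero =>
    intro n
    exact pcd_zero ((S 0).map_isZero (IsZero.of_mono (K.iCycles m) (hN m (by omega))))
  | succ k ih =>
    have h₃ := ih (m + 1) (fun i hi => hP i (by omega)) (by omega)
    let T := ShortComplex.mk (K.iCycles m) (K.toCycles m (m + 1)) (by
      simp [← cancel_mono (K.iCycles (m + 1))])
    have hepi : Epi T.g := by
      rw [epi_iff_surjective_up_to_refinements]
      intro A x
      obtain ⟨A', π, hπ, y, hy⟩ := ((K.exactAt_iff_exact_up_to_refinements m (m + 1) (m + 2)
        (by simp) (by simp)).1 (hK (m + 1))) (x ≫ K.iCycles (m + 1)) (by simp)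
      exact ⟨A', π, hπ, y, by simp [T, ← cancel_mono (K.iCycles (m + 1)), hy]⟩
    have hT : T.ShortExact := by
      refine { exact := ?_, mono_f := by dsimp [T]; infer_instance, epi_g := hepi }
      rw [ShortComplex.exact_iff_exact_up_to_refinements]
      intro A x hx
      have hx' : x ≫ K.d m (m + 1) = 0 := by
        have := congrArg (· ≫ K.iCycles (m + 1)) hx
        simpa [T] using this
      exact ⟨A, 𝟙 A, inferInstance, K.liftCycles x (m + 1) (by simp) hx', by simp [T]⟩
    intro n
    have := pcd_kernel hsum hqs hql hT (n := n - 1) (hP m le_rfl (n - 1 + 1)) (h₃ (n - 1))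
    exact PCD.mono this (by omega)

lemma ft_of_exact_seq (K : CochainComplex C ℕ) (hK : ∀ i, K.ExactAt i) (N : ℕ)
    (hN : ∀ i, N < i → IsZero (K.X i)) (hP : ∀ i, 1 ≤ i → IsPC P ((S 0).obj (K.X i))) :
    IsOfFiniteType P (K.X 0) := by
  have h := ft_of_pcd_single hsum hqs hql (isPC_cycles hsum hqs hql K hK N hN 1 hP 0)
  have : Mono (K.d 0 1) := by
    refine Preadditive.mono_of_cancel_zero _ (fun {A} x hx => ?_)
    obtain ⟨A', π, hπ, y, hy⟩ := ((K.exactAt_iff_exact_up_to_refinements 0 0 1
      (by simp) (by simp)).1 (hK 0)) x hx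
    exact (cancel_epi π).1 (by simpa using hy)
  have : Mono (K.toCycles 0 1) := mono_of_mono_fac (K.toCycles_i 0 1)
  have : Epi (K.toCycles 0 1) := by
    rw [epi_iff_surjective_up_to_refinements]
    intro A x
    obtain ⟨A', π, hπ, y, hy⟩ := ((K.exactAt_iff_exact_up_to_refinements 0 1 2
      (by simp) (by simp)).1 (hK 1)) (x ≫ K.iCycles 1) (by simp)
    exact ⟨A', π, hπ, y, by simp [← cancel_mono (K.iCycles 1), hy]⟩
  have := isIso_of_mono_of_epi (K.toCycles 0 1)
  exact ft_of_iso h (asIso (K.toCycles 0 1)).symm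

/-- A coherent object is pseudo-coherent. -/
lemma isPC_of_coherent
    (hcoh : ∀ (X E : C) (u : E ⟶ X), P X → P E → IsOfFiniteType P (kernel u))
    (X : C) (hX : IsOfFiniteType P X) (hX' : Precoherent P X) : IsPC P ((S 0).obj X) := by
  suffices ∀ (k : ℕ) (X : C), IsOfFiniteType P X → Precoherent P X →
      PCD P (-(k : ℤ)) ((S 0).obj X) from
    fun n => (this (-n).toNat X hX hX').mono (by omega)
  intro k
  induction k with
  | zero => intro X hX _; simpa using pcd_single_of_ft hsum hqs hql hX
  | succ k ih =>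
    intro X hX hX'
    obtain ⟨L, π, hL, hπ⟩ := hX
    let T := ShortComplex.mk (kernel.ι π) π (kernel.condition π)
    have hT : T.ShortExact := { exact := T.exact_of_f_is_kernel (kernelIsKernel π) }
    have hK : Precoherent P (kernel π) := fun E u hE =>
      ft_of_iso (hcoh L E (u ≫ kernel.ι π) hL hE) (kernelCompMono u (kernel.ι π))
    have h₁ := ih (kernel π) (hX' L π hL) hK
    have h₂ := isPC_single_of_mem hL (-((k + 1 : ℕ) : ℤ))
    refine pcd₃ hsum hqs hql hT.singleTriangle hT.singleTriangle_distinguished ?_ h₂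
    exact h₁.mono (by omega)

omit hqs in
/-- Homology of a complex with coherent terms is coherent. -/
lemma coherent_homology (hcoh : ∀ (X E : C) (u : E ⟶ X), P X → P E → IsOfFiniteType P (kernel u))
    {n : ℤ} (E : CochainComplex C ℤ) (hP : ∀ i, n ≤ i → P (E.X i)) (i : ℤ) (hi : n ≤ i) :
    IsOfFiniteType P (E.homology i) ∧ (n < i → Precoherent P (E.homology i)) := by
  have hpre : Precoherent P (E.X i) := fun L u hL => hcoh _ L u (hP i hi) hL
  have hZ : IsOfFiniteType P (E.cycles i) := by
    refine ft_of_iso (hcoh (E.X (i + 1)) (E.X i) (E.d i (i + 1)) (hP _ (by omega)) (hP i hi)) ?_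
    exact IsLimit.conePointUniqueUpToIso (kernelIsKernel _)
      (E.cyclesIsKernel i (i + 1) (by simp))
  refine ⟨ft_of_epi hZ (E.homologyπ i), fun hni => ?_⟩
  let T := ShortComplex.mk (E.toCycles (i - 1) i) (E.homologyπ i) (by simp)
  have hT : T.Exact := T.exact_of_g_is_cokernel (E.homologyIsCokernel (i - 1) i (by simp))
  refine precoherent_right hsum hql hT (by dsimp [T]; infer_instance)
    (ft_of_mem (hP (i - 1) (by omega))) ?_
  intro L u hL
  exact ft_of_iso (hpre L (u ≫ E.iCycles i) hL) (kernelCompMono u (E.iCycles i))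

omit hsum hqs hql [HasDerivedCategory.{w} C] in
/-- Coherence of the class gives quasi-stability. -/
lemma quasiStable_of_coherent
    (hcoh : ∀ (X E : C) (u : E ⟶ X), P X → P E → IsOfFiniteType P (kernel u)) :
    IsQuasiStableUnderKernels P := by
  intro K hK _ hP
  have h : IsOfFiniteType P (K.cycles 1) :=
    ft_of_iso (hcoh (K.X 2) (K.X 1) (K.d 1 2) (hP 2 (by omega)) (hP 1 le_rfl))
      (IsLimit.conePointUniqueUpToIso (kernelIsKernel _) (K.cyclesIsKernel 1 2 (by simp)))
  have : Mono (K.d 0 1) := by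
    refine Preadditive.mono_of_cancel_zero _ (fun {A} x hx => ?_)
    obtain ⟨A', π, hπ, y, hy⟩ := ((K.exactAt_iff_exact_up_to_refinements 0 0 1
      (by simp) (by simp)).1 (hK 0)) x hx
    exact (cancel_epi π).1 (by simpa using hy)
  have : Mono (K.toCycles 0 1) := mono_of_mono_fac (K.toCycles_i 0 1)
  have : Epi (K.toCycles 0 1) := by
    rw [epi_iff_surjective_up_to_refinements]
    intro A x
    obtain ⟨A', π, hπ, y, hy⟩ := ((K.exactAt_iff_exact_up_to_refinements 0 1 2
      (by simp) (by simp)).1 (hK 1)) (x ≫ K.iCycles 1) (by simp)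
    exact ⟨A', π, hπ, y, by simp [← cancel_mono (K.iCycles 1), hy]⟩
  have := isIso_of_mono_of_epi (K.toCycles 0 1)
  exact ft_of_iso h (asIso (K.toCycles 0 1)).symm

end Groth.Agent.Lib.PCoh.Coherent
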