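/-
Finite presentations of length `n` and pseudo-coherence of a single object.
-/
import Groth.Agent.Lib.PCoh.Coherent
import Mathlib.Algebra.Homology.Augment

set_option autoImplicit false
set_option linter.unusedSectionVars false

open CategoryTheory CategoryTheory.Limits CategoryTheory.Pretriangulated
open _root_.PCoh Groth.Agent.Lib.PCoh.Basic Groth.Agent.Lib.PCoh.Derived Groth.Agent.Lib.PCoh.Derived2
open Groth.Agent.Lib.PCoh.Derived3 Groth.Agent.Lib.PCoh.Coherent

namespace Groth.Agent.Lib.PCoh.FinPres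

universe w v u

variable {C : Type u} [Category.{v} C] [Abelian C]
variable {P : ObjectProperty C}

variable (P) in
/-- A finite presentation of length `n`. -/
def HasPres (n : ℕ) (F : C) : Prop :=
  ∃ K : ChainComplex C ℕ, Nonempty (K.X 0 ≅ F) ∧ (∀ j : ℕ, j ≤ n → K.ExactAt j) ∧
    (∀ j : ℕ, n + 1 < j → IsZero (K.X j)) ∧ (∀ j : ℕ, 1 ≤ j → j ≤ n + 1 → P (K.X j))

lemma exactAt_zero_iff (K : ChainComplex C ℕ) : K.ExactAt 0 ↔ Epi (K.d 1 0) := by
  rw [HomologicalComplex.exactAt_iff_exact_up_to_refinements K 1 0 0 (by simp) (by simp),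
    epi_iff_surjective_up_to_refinements]
  exact ⟨fun h A x => h x (by simp), fun h A x _ => h x⟩

lemma hasPres_zero {F : C} (h : IsOfFiniteType P F) : HasPres P 0 F := by
  obtain ⟨L, π, hL, hπ⟩ := h
  obtain ⟨Z, hZ⟩ : ∃ Z : C, IsZero Z := ⟨kernel (𝟙 F), isZero_kernel_of_mono _⟩
  let M : ChainComplex C ℕ := ChainComplex.of
    (fun j => match j with | 0 => L | _ + 1 => Z) (fun _ => 0) (fun _ => zero_comp)
  have w : M.d 1 0 ≫ (π : M.X 0 ⟶ F) = 0 := hZ.eq_of_src _ _
  refine ⟨M.augment (π : M.X 0 ⟶ F) w, ⟨Iso.refl _⟩, fun j hj => ?_, fun j hj => ?_, fun j h1 hj => ?_⟩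
  · obtain rfl : j = 0 := by omega
    rw [exactAt_zero_iff]
    exact hπ
  · match j, hj with
    | j + 2, _ => exact hZ
  · obtain rfl : j = 1 := by omega
    exact hL

lemma hasPres_succ {n : ℕ} {F L : C} (π : L ⟶ F) [Epi π] (hL : P L)
    (h : HasPres P n (kernel π)) : HasPres P (n + 1) F := by
  obtain ⟨K, ⟨e⟩, hex, hz, hP⟩ := h
  let T := ChainComplex.truncate.obj K
  let g : T.X 0 ⟶ L := K.d 1 0 ≫ e.hom ≫ kernel.ι π
  have wg : T.d 1 0 ≫ g = 0 := by
    change K.d 2 1 ≫ K.d 1 0 ≫ e.hom ≫ kernel.ι π = 0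
    simp
  let M := T.augment g wg
  have w : M.d 1 0 ≫ (π : M.X 0 ⟶ F) = 0 := by
    change (K.d 1 0 ≫ e.hom ≫ kernel.ι π) ≫ π = 0
    simp
  refine ⟨M.augment (π : M.X 0 ⟶ F) w, ⟨Iso.refl _⟩, fun j hj => ?_, fun j hj => ?_, fun j h1 hj => ?_⟩
  · match j, hj with
    | 0, _ =>
      rw [exactAt_zero_iff]
      change Epi π
      infer_instance
    | 1, _ =>
      have hepi : Epi (K.d 1 0) := (exactAt_zero_iff K).1 (hex 0 (by omega))
      rw [HomologicalComplex.exactAt_iff_exact_up_to_refinements _ 2 1 0 (by simp) (by simp)]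
      intro A x hx
      change A ⟶ L at x
      change x ≫ π = 0 at hx
      change ∃ (A' : C) (p : A' ⟶ A) (_ : Epi p) (x₁ : A' ⟶ K.X 1),
        p ≫ x = x₁ ≫ K.d 1 0 ≫ e.hom ≫ kernel.ι π
      obtain ⟨A', p, hp, y, hy⟩ := surjective_up_to_refinements_of_epi (K.d 1 0) (kernel.lift π x hx ≫ e.inv)
      refine ⟨A', p, hp, y, ?_⟩
      rw [← Category.assoc y, ← hy]
      simp
    | 2, hj =>
      have h' := hex 1 (by omega)
      rw [HomologicalComplex.exactAt_iff_exact_up_to_refinements K 2 1 0 (by simp) (by simp)] at h'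
      rw [HomologicalComplex.exactAt_iff_exact_up_to_refinements _ 3 2 1 (by simp) (by simp)]
      intro A x hx
      change A ⟶ K.X 1 at x
      change x ≫ K.d 1 0 ≫ e.hom ≫ kernel.ι π = 0 at hx
      change ∃ (A' : C) (p : A' ⟶ A) (_ : Epi p) (x₁ : A' ⟶ K.X 2), p ≫ x = x₁ ≫ K.d 2 1
      exact h' x ((cancel_mono (e.hom ≫ kernel.ι π)).1 (by simpa using hx))
    | j + 3, hj =>
      have h' := hex (j + 2) (by omega)
      rw [HomologicalComplex.exactAt_iff_exact_up_to_refinements K (j + 3) (j + 2) (j + 1) (by simp) (by simp)] at h'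
      rw [HomologicalComplex.exactAt_iff_exact_up_to_refinements _ (j + 4) (j + 3) (j + 2) (by simp) (by simp)]
      intro A x hx
      exact h' x hx
  · match j, hj with
    | j + 2, hj => exact hz (j + 1) (by omega)
  · match j, h1, hj with
    | 1, _, _ => exact hL
    | j + 2, _, hj => exact hP (j + 1) (by omega) (by omega)

variable [HasDerivedCategory.{w} C] [P.ContainsZero] [P.IsClosedUnderIsomorphisms]
variable (hsum : ∀ X Y : C, P X → P Y → P (X ⨯ Y)) (hqs : IsQuasiStableUnderKernels P)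
  (hql : IsQuasiLiftable P)

local notation "S" => DerivedCategory.singleFunctor C

include hsum hqs hql

lemma hasPres_of_pcd : ∀ (n : ℕ) (F : C), PCD P (-(n : ℤ)) ((S 0).obj F) → HasPres P n F
  | 0, F, h => hasPres_zero (ft_of_pcd_single hsum hqs hql (h.mono (by simp)))
  | n + 1, F, h => by
    obtain ⟨L, π, hL, hπ⟩ := ft_of_pcd_single hsum hqs hql (h.mono (by omega : _ ≤ (0 : ℤ)))
    let T := ShortComplex.mk (kernel.ι π) π (kernel.condition π)
    have hT : T.ShortExact := { exact := T.exact_of_f_is_kernel (kernelIsKernel π) }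
    refine hasPres_succ π hL (hasPres_of_pcd n (kernel π) ?_)
    exact (pcd_kernel hsum hqs hql hT (n := -(((n + 1 : ℕ) : ℤ)))
      (isPC_single_of_mem hL _) h).mono (by omega)

lemma pcd_of_hasPres {n : ℕ} {F : C} (h : HasPres P n F) : PCD P (-(n : ℤ)) ((S 0).obj F) := by
  obtain ⟨K, ⟨e⟩, hex, -, hP⟩ := h
  have hepi : ∀ j, j ≤ n → Epi (K.toCycles (j + 1) j) := fun j hj => by
    rw [epi_iff_surjective_up_to_refinements]
    intro A x
    have h' := hex j hj
    rw [HomologicalComplex.exactAt_iff_exact_up_to_refinements K (j + 1) j _ (by simp) rfl] at h'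
    obtain ⟨A', p, hp, y, hy⟩ := h' (x ≫ K.iCycles j) (by simp)
    exact ⟨A', p, hp, y, by simp [← cancel_mono (K.iCycles j), hy]⟩
  suffices ∀ k j, j + k = n → PCD P (-(k : ℤ)) ((S 0).obj (K.cycles j)) by
    have h0 := this n 0 (by omega)
    have : IsIso (K.iCycles 0) :=
      K.isIso_iCycles 0 0 (by simp) (K.shape _ _ (by simp))
    exact h0.of_iso ((S 0).mapIso (asIso (K.iCycles 0) ≪≫ e))
  intro k
  induction k with
  | zero =>
    intro j hj
    have := hepi j (by omega)
    simpa using pcd_single_of_ft hsum hqs hql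
      (ft_of_epi (ft_of_mem (hP (j + 1) (by omega) (by omega))) (K.toCycles (j + 1) j))
  | succ k ih =>
    intro j hj
    have h₁ := ih (j + 1) (by omega)
    let T := ShortComplex.mk (K.iCycles (j + 1)) (K.toCycles (j + 1) j) (by
      simp [← cancel_mono (K.iCycles j)])
    have hT : T.ShortExact := by
      refine { exact := ?_, mono_f := by dsimp [T]; infer_instance, epi_g := hepi j (by omega) }
      rw [ShortComplex.exact_iff_exact_up_to_refinements]
      intro A x hx
      have hx' : x ≫ K.d (j + 1) j = 0 := by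
        have := congrArg (· ≫ K.iCycles j) hx
        simpa [T] using this
      exact ⟨A, 𝟙 A, inferInstance, K.liftCycles x j (by simp) hx', by simp [T]⟩
    exact pcd₃ hsum hqs hql hT.singleTriangle hT.singleTriangle_distinguished
      (h₁.mono (by omega)) (isPC_single_of_mem (hP (j + 1) (by omega) (by omega)) _)

end Groth.Agent.Lib.PCoh.FinPres
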