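/-
Images of pseudo-coherent objects by triangulated functors.
-/
import Groth.Agent.Lib.PCoh.Derived3

set_option autoImplicit false
set_option linter.unusedSectionVars false

open CategoryTheory CategoryTheory.Limits CochainComplex CategoryTheory.Pretriangulated
open _root_.PCoh Groth.Agent.Lib.PCoh.Cone Groth.Agent.Lib.PCoh.Basic Groth.Agent.Lib.PCoh.Derived
open Groth.Agent.Lib.PCoh.Resolve Groth.Agent.Lib.PCoh.Derived2 Groth.Agent.Lib.PCoh.Derived3

namespace Groth.Agent.Lib.PCoh.Functor

universe w v u w' v' u'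

variable {C : Type u} [Category.{v} C] [Abelian C] [HasDerivedCategory.{w} C]
variable {C' : Type u'} [Category.{v'} C'] [Abelian C'] [HasDerivedCategory.{w'} C']
variable {P : ObjectProperty C} {P' : ObjectProperty C'}
variable (Φ : DerivedCategory C ⥤ DerivedCategory C') [Φ.CommShift ℤ] [Φ.IsTriangulated]

lemma vanishing (b : ℤ)
    (hii : ∀ F : DerivedCategory C,
      (∀ i : ℤ, 0 < i → IsZero ((DerivedCategory.homologyFunctor C i).obj F)) →
      ∀ i : ℤ, b < i → IsZero ((DerivedCategory.homologyFunctor C' i).obj (Φ.obj F)))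
    (n : ℤ) (F : DerivedCategory C)
    (hF : ∀ i : ℤ, n < i → IsZero ((DerivedCategory.homologyFunctor C i).obj F)) :
    ∀ i : ℤ, n + b < i → IsZero ((DerivedCategory.homologyFunctor C' i).obj (Φ.obj F)) := by
  intro i hi
  have h := hii ((CategoryTheory.shiftFunctor (DerivedCategory C) n).obj F)
    (fun j hj => (hF (n + j) (by omega)).of_iso (hShiftIso F n j (n + j) rfl)) (i - n) (by omega)
  exact h.of_iso ((hShiftIso (Φ.obj F) n (i - n) i (by omega)).symm ≪≫
    (DerivedCategory.homologyFunctor C' (i - n)).mapIso ((Φ.commShiftIso n).app F).symm)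

variable [P.IsClosedUnderIsomorphisms]
variable [P'.ContainsZero] [P'.IsClosedUnderIsomorphisms]
variable (hsum' : ∀ X Y : C', P' X → P' Y → P' (X ⨯ Y)) (hqs' : IsQuasiStableUnderKernels P')
  (hql' : IsQuasiLiftable P')

include hsum' hqs' hql'

lemma pcd_map (a b : ℤ)
    (hi : ∀ E : C, P E → PCD P' a (Φ.obj ((DerivedCategory.singleFunctor C 0).obj E)))
    (hii : ∀ F : DerivedCategory C,
      (∀ i : ℤ, 0 < i → IsZero ((DerivedCategory.homologyFunctor C i).obj F)) →
      ∀ i : ℤ, b < i → IsZero ((DerivedCategory.homologyFunctor C' i).obj (Φ.obj F)))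
    (m : ℤ) (k : ℕ) : ∀ (n : ℤ) (K : CochainComplex C ℤ), n ≤ m - 1 + k →
      (∀ i, m ≤ i → P (K.X i)) → (∀ i, n < i → IsZero (K.X i)) →
      ∀ t : ℤ, m + b ≤ t → n + a ≤ t → PCD P' t (Φ.obj (DerivedCategory.Q.obj K)) := by
  induction k with
  | zero =>
    intro n K hn _ hz t ht _
    refine pcd_of_acyclic fun i hti => ?_
    exact vanishing Φ b hii n _ (fun j hj =>
      (exactAt_iff_isZero K j).1 (HomologicalComplex.ExactAt.of_isZero (hz j hj))) i
      (by simp at hn; omega)
  | succ k ih =>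
    intro n K hn hP hz t ht ht'
    by_cases hnm : n < m
    · refine pcd_of_acyclic fun i hti => ?_
      exact vanishing Φ b hii n _ (fun j hj =>
        (exactAt_iff_isZero K j).1 (HomologicalComplex.ExactAt.of_isZero (hz j hj))) i (by omega)
    obtain ⟨K', T, hT, ⟨e₁⟩, ⟨e₂⟩, ⟨e₃⟩, hz', he⟩ := exists_stupid_triangle K n hz
    have h1 : PCD P' t (Φ.obj T.obj₁) := by
      have h := ((hi _ (hP n (by omega))).shift' (-n) (n + a) (by omega)).of_iso
        (((Φ.commShiftIso (-n)).app _).symm ≪≫ Φ.mapIso (singleShiftIso (K.X n) n) ≪≫ Φ.mapIso e₁.symm)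
      exact h.mono (by omega)
    have h3 : PCD P' t (Φ.obj T.obj₃) := by
      refine (ih (n - 1) K' (by push_cast at hn; omega) (fun i hmi => ?_) (fun i hi' => hz' i (by omega))
        t ht (by omega)).of_iso (Φ.mapIso e₃.symm)
      by_cases hin : n ≤ i
      · exact ObjectProperty.prop_of_iso P ((hz (n + 1) (by omega)).iso (hz' i hin))
          (hP (n + 1) (by omega))
      · obtain ⟨e⟩ := he i (by omega)
        exact ObjectProperty.prop_of_iso P e (hP i hmi)
    exact (pcd₂ hsum' hqs' hql' (Φ.mapTriangle.obj T) (Φ.map_distinguished T hT) h1 h3).of_iso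
      (Φ.mapIso e₂)

end Groth.Agent.Lib.PCoh.Functor
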